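/-
Transvections `1 + y ⊗ φ` in a subgroup of `SL`, and a criterion for the subgroup to be everything:
one axis (or one centre) with all centres (axes), moved around enough to span.
-/
import Cfsg.Agent.Lib.LinearGroups.Basic

set_option autoImplicit false

namespace Cfsg.Agent.SLGen

open Matrix

variable {ι : Type*} [Fintype ι] [DecidableEq ι] {F : Type*} [Field F]

/-- The transvection `1 + y ⊗ φ`. -/
def tv (y φ : ι → F) (h : φ ⬝ᵥ y = 0) : SpecialLinearGroup ι F :=
  ⟨1 + vecMulVec y φ, by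
    rw [vecMulVec_eq Unit, det_one_add_replicateCol_mul_replicateRow, h, add_zero]⟩

theorem coe_tv (y φ : ι → F) (h : φ ⬝ᵥ y = 0) :
    (tv y φ h : Matrix ι ι F) = 1 + vecMulVec y φ := rfl

theorem coe_ext {A B : SpecialLinearGroup ι F} (h : (A : Matrix ι ι F) = B) : A = B := Subtype.ext h

/-- `H` contains the transvection `1 + y ⊗ φ`. -/
def Has (H : Subgroup (SpecialLinearGroup ι F)) (y φ : ι → F) : Prop :=
  ∃ h : φ ⬝ᵥ y = 0, tv y φ h ∈ H

theorem cmul (A B : SpecialLinearGroup ι F) :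
    ((A * B : SpecialLinearGroup ι F) : Matrix ι ι F) = (A : Matrix ι ι F) * (B : Matrix ι ι F) := rfl

theorem cone : ((1 : SpecialLinearGroup ι F) : Matrix ι ι F) = 1 := rfl

variable {H : Subgroup (SpecialLinearGroup ι F)} {y y' z φ φ' ψ : ι → F}

theorem Has.dot (h : Has H y φ) : φ ⬝ᵥ y = 0 := h.1

theorem has_of_mem {g : SpecialLinearGroup ι F} (hg : g ∈ H) (h : φ ⬝ᵥ y = 0)
    (e : (g : Matrix ι ι F) = 1 + vecMulVec y φ) : Has H y φ :=
  ⟨h, (coe_ext (B := tv y φ h) e) ▸ hg⟩

theorem Has.congr (h : Has H y φ) (e : vecMulVec y φ = vecMulVec y' φ') (h' : φ' ⬝ᵥ y' = 0) :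
    Has H y' φ' :=
  has_of_mem h.2 h' (by rw [coe_tv, e])

theorem has_zero_left : Has H 0 φ :=
  has_of_mem H.one_mem (dotProduct_zero φ) (by simp)

theorem has_zero_right : Has H y 0 :=
  has_of_mem H.one_mem (zero_dotProduct y) (by simp)

theorem Has.add_left (h : Has H y φ) (h' : Has H z φ) : Has H (y + z) φ := by
  refine has_of_mem (H.mul_mem h.2 h'.2) (by rw [dotProduct_add, h.dot, h'.dot, add_zero]) ?_
  rw [cmul, coe_tv, coe_tv, mul_add, add_mul, add_mul, one_mul, mul_one,
    one_mul, vecMulVec_mul_vecMulVec, h'.dot, zero_smul, vecMulVec_zero, add_zero, add_vecMulVec]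
  abel

theorem Has.add_right (h : Has H y φ) (h' : Has H y ψ) : Has H y (φ + ψ) := by
  refine has_of_mem (H.mul_mem h.2 h'.2) (by rw [add_dotProduct, h.dot, h'.dot, add_zero]) ?_
  rw [cmul, coe_tv, coe_tv, mul_add, add_mul, add_mul, one_mul, mul_one,
    one_mul, vecMulVec_mul_vecMulVec, h.dot, zero_smul, vecMulVec_zero, add_zero, vecMulVec_add]
  abel

theorem Has.swap_smul (c : F) (h : Has H (c • y) φ) (hd : φ ⬝ᵥ y = 0) : Has H y (c • φ) :=
  h.congr (by rw [vecMulVec_smul, smul_vecMulVec]) (by rw [smul_dotProduct, hd, smul_zero])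

theorem Has.swap_smul' (c : F) (h : Has H y (c • φ)) (hd : φ ⬝ᵥ y = 0) : Has H (c • y) φ :=
  h.congr (by rw [vecMulVec_smul, smul_vecMulVec]) (by rw [dotProduct_smul, hd, smul_zero])

theorem Has.neg_left (h : Has H y φ) : Has H (-y) φ := by
  refine has_of_mem (H.inv_mem h.2) (by rw [dotProduct_neg, h.dot, neg_zero]) ?_
  have e : (tv y φ h.1)⁻¹ = tv (-y) φ (by rw [dotProduct_neg, h.dot, neg_zero]) := by
    refine inv_eq_of_mul_eq_one_right (coe_ext ?_)
    rw [cmul, coe_tv, coe_tv, mul_add, add_mul, add_mul, one_mul, mul_one,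
      one_mul, vecMulVec_mul_vecMulVec, dotProduct_neg, h.dot, neg_zero, zero_smul, vecMulVec_zero,
      add_zero, neg_vecMulVec, cone]
    abel
  rw [e, coe_tv]

theorem Has.sub_left (h : Has H y φ) (h' : Has H z φ) : Has H (y - z) φ := by
  rw [sub_eq_add_neg]; exact h.add_left h'.neg_left

theorem Has.neg_right (h : Has H y φ) : Has H y (-φ) :=
  h.neg_left.congr (by rw [vecMulVec_neg, neg_vecMulVec]) (by rw [neg_dotProduct, h.dot, neg_zero])

theorem Has.sub_right (h : Has H y φ) (h' : Has H y ψ) : Has H y (φ - ψ) := by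
  rw [sub_eq_add_neg]; exact h.add_right h'.neg_right

/-- Conjugation. -/
theorem Has.conj (h : Has H y φ) {g : SpecialLinearGroup ι F} (hg : g ∈ H) :
    Has H ((g : Matrix ι ι F) *ᵥ y) (φ ᵥ* ((g⁻¹ : SpecialLinearGroup ι F) : Matrix ι ι F)) := by
  refine has_of_mem (H.mul_mem (H.mul_mem hg h.2) (H.inv_mem hg)) ?_ ?_
  · rw [← dotProduct_mulVec, mulVec_mulVec, ← cmul, inv_mul_cancel,
      cone, one_mulVec, h.dot]
  · rw [cmul, cmul, coe_tv, mul_add, add_mul, mul_one,
      ← cmul, mul_inv_cancel, cone, mul_vecMulVec, vecMulVec_mul]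

/-- The commutator rule, as an axis. -/
theorem Has.comm_left (h : Has H y φ) (h' : Has H z ψ) (hz : φ ⬝ᵥ z = 0) :
    Has H ((ψ ⬝ᵥ y) • z) φ := by
  have h1 := h.conj h'.2
  have e1 : (tv z ψ h'.1 : Matrix ι ι F) *ᵥ y = y + (ψ ⬝ᵥ y) • z := by
    rw [coe_tv, add_mulVec, one_mulVec, vecMulVec_mulVec, op_smul_eq_smul]
  have e2 : φ ᵥ* (((tv z ψ h'.1)⁻¹ : SpecialLinearGroup ι F) : Matrix ι ι F) = φ := by
    have : φ ᵥ* (tv z ψ h'.1 : Matrix ι ι F) = φ := by
      rw [coe_tv, vecMul_add, vecMul_one, vecMul_vecMulVec, hz, zero_smul, add_zero]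
    calc φ ᵥ* (((tv z ψ h'.1)⁻¹ : SpecialLinearGroup ι F) : Matrix ι ι F)
        = (φ ᵥ* (tv z ψ h'.1 : Matrix ι ι F)) ᵥ*
            (((tv z ψ h'.1)⁻¹ : SpecialLinearGroup ι F) : Matrix ι ι F) := by rw [this]
      _ = φ := by rw [vecMul_vecMul, ← cmul, mul_inv_cancel,
          cone, vecMul_one]
  rw [e1, e2] at h1
  simpa using h1.sub_left h

/-- The commutator rule, as a centre. -/
theorem Has.comm_right (h : Has H y φ) (h' : Has H z ψ) (hz : φ ⬝ᵥ z = 0) :
    Has H z ((ψ ⬝ᵥ y) • φ) :=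
  (h.comm_left h' hz).swap_smul _ hz

theorem vecMul_inv_tv (ρ : ι → F) (h : φ ⬝ᵥ y = 0) :
    ρ ᵥ* (((tv y φ h)⁻¹ : SpecialLinearGroup ι F) : Matrix ι ι F) = ρ - (ρ ⬝ᵥ y) • φ := by
  have : (tv y φ h)⁻¹ = tv (-y) φ (by rw [dotProduct_neg, h, neg_zero]) := by
    refine inv_eq_of_mul_eq_one_right (coe_ext ?_)
    rw [cmul, coe_tv, coe_tv, mul_add, add_mul, add_mul, one_mul, mul_one,
      one_mul, vecMulVec_mul_vecMulVec, dotProduct_neg, h, neg_zero, zero_smul, vecMulVec_zero,
      add_zero, neg_vecMulVec, cone]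
    abel
  rw [this, coe_tv, vecMul_add, vecMul_one, vecMul_vecMulVec, dotProduct_neg, neg_smul, sub_eq_add_neg]

/-- Axes all of whose transvections lie in `H` form a subspace. -/
def axes (H : Subgroup (SpecialLinearGroup ι F)) : Submodule F (ι → F) where
  carrier := {φ | ∀ y, φ ⬝ᵥ y = 0 → Has H y φ}
  zero_mem' := fun y _ => has_zero_right
  smul_mem' c φ hφ y hy := by
    rcases eq_or_ne c 0 with rfl | hc
    · rw [zero_smul]; exact has_zero_right
    · rw [smul_dotProduct, smul_eq_mul, mul_eq_zero] at hy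
      exact Has.swap_smul c (hφ (c • y) (by rw [dotProduct_smul, hy.resolve_left hc, smul_zero]))
        (hy.resolve_left hc)
  add_mem' := by
    intro φ ψ hφ hψ y hy
    by_cases hex : ∃ z, ψ ⬝ᵥ z = 0 ∧ φ ⬝ᵥ z ≠ 0
    · obtain ⟨z, hz1, hz2⟩ := hex
      set z' := (-(φ ⬝ᵥ z)⁻¹) • z with hz'
      have hz3 : ψ ⬝ᵥ z' = 0 := by rw [hz', dotProduct_smul, hz1, smul_zero]
      have hz4 : φ ⬝ᵥ z' = -1 := by rw [hz', dotProduct_smul, smul_eq_mul, neg_mul, inv_mul_cancel₀ hz2]
      obtain ⟨hd, hm⟩ := hψ z' hz3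
      have key : φ ᵥ* (((tv z' ψ hd)⁻¹ : SpecialLinearGroup ι F) : Matrix ι ι F) = φ + ψ := by
        rw [vecMul_inv_tv, hz4, neg_smul, one_smul, sub_neg_eq_add]
      have := (hφ ((((tv z' ψ hd)⁻¹ : SpecialLinearGroup ι F) : Matrix ι ι F) *ᵥ y) (by
        rw [dotProduct_mulVec, key]; exact hy)).conj hm
      rw [key, mulVec_mulVec, ← cmul, mul_inv_cancel, cone,
        one_mulVec] at this
      exact this
    · simp only [not_exists, not_and, not_not] at hex
      rcases eq_or_ne ψ 0 with rfl | hψ0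
      · simpa using hφ y (by simpa using hy)
      · obtain ⟨i, hi⟩ : ∃ i, ψ i ≠ 0 := by
          by_contra hc
          simp only [not_exists, not_not] at hc
          exact hψ0 (funext hc)
        have hmul : φ = (φ i / ψ i) • ψ := by
          funext j
          have := hex (ψ i • Pi.single j 1 - ψ j • Pi.single i 1) (by simp [dotProduct_sub]; ring)
          simp [dotProduct_sub] at this
          simp only [Pi.smul_apply, smul_eq_mul]
          field_simp
          linear_combination this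
        have hsum : φ + ψ = (φ i / ψ i + 1) • ψ := by rw [add_smul, one_smul, ← hmul]
        rw [hsum] at hy ⊢
        rcases eq_or_ne (φ i / ψ i + 1) 0 with h0 | h0
        · rw [h0, zero_smul]; exact has_zero_right
        · rw [smul_dotProduct, smul_eq_mul, mul_eq_zero] at hy
          exact Has.swap_smul _ (hψ _ (by rw [dotProduct_smul, hy.resolve_left h0, smul_zero]))
            (hy.resolve_left h0)

/-- Centres all of whose transvections lie in `H` form a subspace. -/
def centres (H : Subgroup (SpecialLinearGroup ι F)) : Submodule F (ι → F) where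
  carrier := {y | ∀ φ, φ ⬝ᵥ y = 0 → Has H y φ}
  zero_mem' := fun φ _ => has_zero_left
  smul_mem' c y hy φ hφ := by
    rcases eq_or_ne c 0 with rfl | hc
    · rw [zero_smul]; exact has_zero_left
    · rw [dotProduct_smul, smul_eq_mul, mul_eq_zero] at hφ
      exact Has.swap_smul' c (hy (c • φ) (by rw [smul_dotProduct, hφ.resolve_left hc, smul_zero]))
        (hφ.resolve_left hc)
  add_mem' := by
    intro y z hy hz φ hφ
    by_cases hex : ∃ ρ : ι → F, ρ ⬝ᵥ z = 0 ∧ ρ ⬝ᵥ y ≠ 0
    · obtain ⟨ρ, hρ1, hρ2⟩ := hex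
      set ρ' := (ρ ⬝ᵥ y)⁻¹ • ρ with hρ'
      have hρ3 : ρ' ⬝ᵥ z = 0 := by rw [hρ', smul_dotProduct, hρ1, smul_zero]
      have hρ4 : ρ' ⬝ᵥ y = 1 := by rw [hρ', smul_dotProduct, smul_eq_mul, inv_mul_cancel₀ hρ2]
      obtain ⟨hd, hm⟩ := hz ρ' hρ3
      have key : (tv z ρ' hd : Matrix ι ι F) *ᵥ y = y + z := by
        rw [coe_tv, add_mulVec, one_mulVec, vecMulVec_mulVec, op_smul_eq_smul, hρ4, one_smul]
      have := (hy (φ ᵥ* (tv z ρ' hd : Matrix ι ι F)) (by
        rw [← dotProduct_mulVec, key]; exact hφ)).conj hm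
      rw [key, vecMul_vecMul, ← cmul, mul_inv_cancel, cone,
        vecMul_one] at this
      exact this
    · simp only [not_exists, not_and, not_not] at hex
      rcases eq_or_ne z 0 with rfl | hz0
      · simpa using hy φ (by simpa using hφ)
      · obtain ⟨i, hi⟩ : ∃ i, z i ≠ 0 := by
          by_contra hc
          simp only [not_exists, not_not] at hc
          exact hz0 (funext hc)
        have hmul : y = (y i / z i) • z := by
          funext j
          have := hex (z i • Pi.single j 1 - z j • Pi.single i 1) (by simp [sub_dotProduct]; ring)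
          simp [sub_dotProduct] at this
          simp only [Pi.smul_apply, smul_eq_mul]
          field_simp
          linear_combination this
        have hsum : y + z = (y i / z i + 1) • z := by rw [add_smul, one_smul, ← hmul]
        rw [hsum] at hφ ⊢
        rcases eq_or_ne (y i / z i + 1) 0 with h0 | h0
        · rw [h0, zero_smul]; exact has_zero_left
        · rw [dotProduct_smul, smul_eq_mul, mul_eq_zero] at hφ
          exact Has.swap_smul' _ (hz _ (by rw [smul_dotProduct, hφ.resolve_left h0, smul_zero]))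
            (hφ.resolve_left h0)

/-- An invariant axis space is preserved by right multiplication. -/
theorem axes_vecMul {g : SpecialLinearGroup ι F} (hg : g ∈ H) {φ : ι → F} (hφ : φ ∈ axes H) :
    φ ᵥ* (g : Matrix ι ι F) ∈ axes H := by
  intro y hy
  have := (hφ ((g : Matrix ι ι F) *ᵥ y) (by rw [dotProduct_mulVec]; exact hy)).conj (H.inv_mem hg)
  rw [inv_inv, mulVec_mulVec, ← cmul, inv_mul_cancel, cone,
    one_mulVec] at this
  exact this

/-- The centre space is preserved by the group. -/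
theorem centres_mulVec {g : SpecialLinearGroup ι F} (hg : g ∈ H) {y : ι → F} (hy : y ∈ centres H) :
    (g : Matrix ι ι F) *ᵥ y ∈ centres H := by
  intro φ hφ
  have := (hy (φ ᵥ* (g : Matrix ι ι F)) (by rw [← dotProduct_mulVec]; exact hφ)).conj hg
  rw [vecMul_vecMul, ← cmul, mul_inv_cancel, cone,
    vecMul_one] at this
  exact this

theorem eq_top_of_axes (h : ∀ i, (Pi.single i (1 : F) : ι → F) ∈ axes H) : H = ⊤ := by
  rw [eq_top_iff, ← LinGrp.closure_transvectionSet, Subgroup.closure_le]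
  rintro g ⟨i, j, hij, a, rfl⟩
  obtain ⟨hd, hm⟩ := h j (a • Pi.single i 1) (by simp [hij])
  have : tv (a • Pi.single i (1 : F)) (Pi.single j 1) hd = SpecialLinearGroup.transvection hij a := by
    refine coe_ext ?_
    rw [coe_tv, SpecialLinearGroup.transvection_coe]
    congr 1
    ext p q
    by_cases h1 : p = i <;> by_cases h2 : q = j <;>
      simp [vecMulVec_apply, Matrix.single_apply, Pi.single_apply, h1, h2, Ne.symm]
  exact this ▸ hm

theorem eq_top_of_centres (h : ∀ i, (Pi.single i (1 : F) : ι → F) ∈ centres H) : H = ⊤ := by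
  rw [eq_top_iff, ← LinGrp.closure_transvectionSet, Subgroup.closure_le]
  rintro g ⟨i, j, hij, a, rfl⟩
  obtain ⟨hd, hm⟩ := h i (a • Pi.single j 1) (by simp [hij.symm])
  have : tv (Pi.single i (1 : F)) (a • Pi.single j 1) hd = SpecialLinearGroup.transvection hij a := by
    refine coe_ext ?_
    rw [coe_tv, SpecialLinearGroup.transvection_coe]
    congr 1
    ext p q
    by_cases h1 : p = i <;> by_cases h2 : q = j <;>
      simp [vecMulVec_apply, Matrix.single_apply, Pi.single_apply, h1, h2, Ne.symm]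
  exact this ▸ hm

end Cfsg.Agent.SLGen
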