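/-
Indexing helpers for generation arguments in `SL_n`: basis vectors indexed by `ℕ`, the bidiagonal unipotent,
and additive-multiplicative closure of a generator of a finite field.
-/
import Cfsg.Agent.Lib.SLGen.Transvections

set_option autoImplicit false

namespace Cfsg.Agent.SLGen

open Matrix

variable {F : Type*} [Field F] {n : ℕ}

/-- The basis vector with index `j`, zero if `j ≥ n`. -/
def E (n : ℕ) (F : Type*) [Field F] (j : ℕ) : Fin n → F := fun i => if i.val = j then 1 else 0

theorem E_apply (j : ℕ) (i : Fin n) : E n F j i = if i.val = j then 1 else 0 := rfl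

theorem E_eq_single (i : Fin n) : E n F i.val = Pi.single i 1 := by
  funext k
  simp [E, Pi.single_apply, Fin.ext_iff]

theorem dot_E (φ : Fin n → F) {j : ℕ} (hj : j < n) : φ ⬝ᵥ E n F j = φ ⟨j, hj⟩ := by
  rw [show E n F j = E n F (⟨j, hj⟩ : Fin n).val from rfl, E_eq_single]
  simp

theorem E_dot (φ : Fin n → F) {j : ℕ} (hj : j < n) : E n F j ⬝ᵥ φ = φ ⟨j, hj⟩ := by
  rw [dotProduct_comm, dot_E φ hj]

theorem E_dot_E {i j : ℕ} (h : i ≠ j) : E n F i ⬝ᵥ E n F j = 0 := by
  apply Finset.sum_eq_zero
  intro k _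
  by_cases hk : k.val = i
  · simp [E, hk, h]
  · simp [E, hk]

theorem mulVec_E (M : Matrix (Fin n) (Fin n) F) {j : ℕ} (hj : j < n) (i : Fin n) :
    (M *ᵥ E n F j) i = M i ⟨j, hj⟩ := dot_E _ hj

theorem vecMul_E (M : Matrix (Fin n) (Fin n) F) {j : ℕ} (hj : j < n) (i : Fin n) :
    (E n F j ᵥ* M) i = M ⟨j, hj⟩ i := E_dot _ hj

/-- Upper bidiagonal unipotent matrix with all ones. -/
def bidiag (n : ℕ) (F : Type*) [Field F] : Matrix (Fin n) (Fin n) F :=
  Matrix.of fun i j => if i = j then 1 else if i.val + 1 = j.val then 1 else 0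

theorem bidiag_apply (i j : Fin n) :
    bidiag n F i j = if i = j then 1 else if i.val + 1 = j.val then 1 else 0 := rfl

theorem det_bidiag : (bidiag n F).det = 1 := by
  rw [Matrix.det_of_upperTriangular]
  · simp [bidiag_apply]
  · intro i j hij
    have h : j < i := hij
    rw [bidiag_apply, if_neg h.ne', if_neg]
    have h' : (j : ℕ) < i := h
    omega

theorem bidiag_sub_one_pow (k : ℕ) :
    (bidiag n F - 1) ^ k = Matrix.of fun i j : Fin n => if i.val + k = j.val then (1 : F) else 0 := by
  induction k with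
  | zero => ext i j; simp [Matrix.one_apply, Fin.ext_iff]
  | succ k ih =>
    ext i j
    rw [pow_succ, ih, Matrix.mul_apply]
    simp only [Matrix.of_apply, ite_mul, one_mul, zero_mul]
    by_cases h : i.val + k < n
    · rw [Finset.sum_eq_single ⟨i.val + k, h⟩ ?_ (by simp)]
      · simp [bidiag_apply, Matrix.sub_apply, Matrix.one_apply, Fin.ext_iff]
        split_ifs <;> simp_all <;> omega
      · intro l _ hl
        rw [if_neg]
        intro he
        exact hl (Fin.ext he.symm)
    · rw [Finset.sum_eq_zero, if_neg]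
      · have := j.isLt; omega
      · intro l _
        rw [if_neg]
        have := l.isLt
        omega

theorem bidiag_regular (hn : 0 < n) :
    IsNilpotent (bidiag n F - 1) ∧ (bidiag n F - 1) ^ (n - 1) ≠ 0 := by
  refine ⟨⟨n, ?_⟩, fun h => ?_⟩
  · rw [bidiag_sub_one_pow]
    ext i j
    have := j.isLt
    simp only [Matrix.of_apply, Matrix.zero_apply]
    rw [if_neg]
    omega
  · have h1 := congrFun (congrFun h ⟨0, hn⟩) ⟨n - 1, by omega⟩
    rw [bidiag_sub_one_pow] at h1
    simp at h1

/-- Sums, negations and products of a generator of the units give the whole field. -/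
theorem closed_generator [Finite F] (P : F → Prop) (h0 : P 0) (hmul : ∀ x y, P x → P y → P (x * y))
    (a : Fˣ) (ha : ∀ x : Fˣ, x ∈ Subgroup.zpowers a) (hPa : P a) (x : F) : P x := by
  rcases eq_or_ne x 0 with rfl | hx
  · exact h0
  obtain ⟨k, hk⟩ := (mem_powers_iff_mem_zpowers (x := a) (y := Units.mk0 x hx)).2 (ha _)
  have hk' : ∀ j : ℕ, P ((a : F) ^ (j + 1)) := by
    intro j
    induction j with
    | zero => simpa using hPa
    | succ j ih => rw [pow_succ]; exact hmul _ _ ih hPa
  have hx' : (a : F) ^ k = x := by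
    have h2 := congrArg Units.val hk
    simpa using h2
  rcases Nat.eq_zero_or_pos k with rfl | hkpos
  · obtain ⟨m, hm⟩ : ∃ m, orderOf a = m + 1 := ⟨orderOf a - 1, by have := orderOf_pos a; omega⟩
    have h2 := hk' m
    rw [← hm, ← Units.val_pow_eq_pow_val, pow_orderOf_eq_one, Units.val_one] at h2
    rw [← hx', pow_zero]
    exact h2
  · obtain ⟨j, rfl⟩ : ∃ j, k = j + 1 := ⟨k - 1, by omega⟩
    rw [← hx']
    exact hk' j

end Cfsg.Agent.SLGen
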