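import Cfsg.Agent.Lib.SLGen.Basis
import Cfsg.Agent.Lib.SLGen.Transvections

/-!
Generation of `SL_{n+1}` by one root subgroup and the cyclic monomial matrix.
-/

set_option autoImplicit false

namespace Cfsg.Agent.SLGen

open Matrix

variable {F : Type*} [Field F] {n : ℕ}

/-- The cyclic monomial matrix with one sign. -/
def cycW (n : ℕ) (F : Type*) [Field F] : Matrix (Fin (n + 1)) (Fin (n + 1)) F :=
  Matrix.of (fun i j => if j.val = i.val + 1 then 1 else if i.val = n ∧ j.val = 0 then (-1) ^ n else 0)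

theorem cycW_apply (i j : Fin (n + 1)) : cycW n F i j =
    if j.val = i.val + 1 then 1 else if i.val = n ∧ j.val = 0 then (-1) ^ n else 0 := rfl

theorem cycW_mulVec_succ {j : ℕ} (hj : j + 1 < n + 1) :
    cycW n F *ᵥ E (n + 1) F (j + 1) = E (n + 1) F j := by
  funext i
  rw [mulVec_E _ hj, cycW_apply, E_apply]
  dsimp only
  split_ifs <;> first | contradiction | omega | (simp; done) | simp_all

theorem cycW_mulVec_zero : cycW n F *ᵥ E (n + 1) F 0 = (-1 : F) ^ n • E (n + 1) F n := by
  funext i
  rw [mulVec_E _ (Nat.succ_pos n), cycW_apply, Pi.smul_apply, E_apply]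
  dsimp only
  split_ifs <;> first | contradiction | omega | (simp; done) | simp_all

theorem E_vecMul_cycW {j : ℕ} (hj : j < n) :
    E (n + 1) F j ᵥ* cycW n F = E (n + 1) F (j + 1) := by
  funext i
  rw [vecMul_E _ (by omega), cycW_apply, E_apply]
  dsimp only
  split_ifs <;> first | contradiction | omega | (simp; done) | simp_all

theorem E_vecMul_cycW_last :
    E (n + 1) F n ᵥ* cycW n F = (-1 : F) ^ n • E (n + 1) F 0 := by
  funext i
  rw [vecMul_E _ (by omega), cycW_apply, Pi.smul_apply, E_apply]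
  dsimp only
  split_ifs <;> first | contradiction | omega | (simp; done) | simp_all

theorem sign_sq : ((-1 : F) ^ n) * (-1) ^ n = 1 := by
  rw [← pow_add, ← two_mul, pow_mul, neg_one_sq, one_pow]

theorem sign_vecMul_inv {ι : Type*} [Fintype ι] [DecidableEq ι] {g : SpecialLinearGroup ι F}
    {φ ψ : ι → F} (h : ψ ᵥ* (g : Matrix ι ι F) = φ) :
    φ ᵥ* ((g⁻¹ : SpecialLinearGroup ι F) : Matrix ι ι F) = ψ := by
  rw [← h, vecMul_vecMul, ← cmul, mul_inv_cancel, cone, vecMul_one]

/-- All scalar multiples of one root element and the cyclic monomial matrix give everything. -/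
theorem eq_top_of_cyclic (hn : 1 ≤ n) (H : Subgroup (SpecialLinearGroup (Fin (n + 1)) F))
    {w : SpecialLinearGroup (Fin (n + 1)) F} (hwH : w ∈ H) (hw : (w : Matrix _ _ F) = cycW n F)
    (h0 : ∀ c : F, Has H (E (n + 1) F 0) (c • E (n + 1) F 1)) : H = ⊤ := by
  let P : ℕ → ℕ → Prop := fun i j => ∀ c : F, Has H (E (n + 1) F i) (c • E (n + 1) F j)
  have hwrap : P n 0 := by
    intro c
    have h := (h0 ((-1) ^ n * c)).conj hwH
    rw [hw, cycW_mulVec_zero, sign_vecMul_inv (ψ := ((-1) ^ n * c) • E (n + 1) F 0)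
      (by rw [hw, smul_vecMul, E_vecMul_cycW hn])] at h
    refine h.congr ?_ (by rw [smul_dotProduct, E_dot_E (by omega), smul_zero])
    simp only [smul_vecMulVec, vecMulVec_smul, smul_smul]
    rw [mul_right_comm, sign_sq, one_mul]
  have hlast : P (n - 1) n := by
    intro c
    have h := (hwrap ((-1) ^ n * c)).conj hwH
    obtain ⟨m, rfl⟩ : ∃ m, n = m + 1 := ⟨n - 1, by omega⟩
    rw [hw, cycW_mulVec_succ (by omega), sign_vecMul_inv (ψ := c • E (m + 1 + 1) F (m + 1))
      (by rw [hw, smul_vecMul, E_vecMul_cycW_last, smul_smul, mul_comm])] at h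
    exact h
  have hdown : ∀ d i, i + d + 1 = n → P i (i + 1) := by
    intro d
    induction d with
    | zero =>
      intro i hi
      obtain rfl : i = n - 1 := by omega
      rwa [show n - 1 + 1 = n by omega]
    | succ d ih =>
      intro i hi c
      have h := (ih (i + 1) (by omega) c).conj hwH
      rw [hw, cycW_mulVec_succ (by omega), sign_vecMul_inv (ψ := c • E (n + 1) F (i + 1))
        (by rw [hw, smul_vecMul, E_vecMul_cycW (by omega)])] at h
      exact h
  have hadj : ∀ i < n + 1, P i ((i + 1) % (n + 1)) := by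
    intro i hi
    by_cases h : i = n
    · subst h; rw [Nat.mod_self]; exact hwrap
    · rw [Nat.mod_eq_of_lt (by omega)]; exact hdown (n - i - 1) i (by omega)
  have hcomp : ∀ i j k, i ≠ k → j < n + 1 → P i j → P j k → P i k := by
    intro i j k hik hj h1 h2 c
    have h := (h2 c).comm_left (h1 1) (by rw [smul_dotProduct, E_dot_E (Ne.symm hik), smul_zero])
    have e : ((1 : F) • E (n + 1) F j) ⬝ᵥ E (n + 1) F j = 1 := by
      rw [one_smul, dot_E _ hj]; simp [E_apply]
    rwa [e, one_smul] at h
  have hall : ∀ d, d < n → ∀ i < n + 1, P i ((i + d + 1) % (n + 1)) := by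
    intro d
    induction d with
    | zero => intro _ i hi; exact hadj i hi
    | succ d ih =>
      intro hd i hi
      set j := (i + d + 1) % (n + 1) with hj
      have h2 := hadj j (Nat.mod_lt _ (by omega))
      have e : (j + 1) % (n + 1) = (i + (d + 1) + 1) % (n + 1) := by
        rw [hj, Nat.mod_add_mod]; congr 1
      refine hcomp i j _ ?_ (Nat.mod_lt _ (by omega)) (ih (by omega) i hi) (e ▸ h2)
      intro he
      have h3 : (i + (d + 1) + 1) % (n + 1) = i % (n + 1) := by rw [← he, Nat.mod_eq_of_lt hi]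
      have h4 := Nat.sub_mod_eq_zero_of_mod_eq h3
      rw [show i + (d + 1) + 1 - i = d + 2 by omega, Nat.mod_eq_of_lt (by omega)] at h4
      omega
  have hpair : ∀ i j : Fin (n + 1), i ≠ j → P i.val j.val := by
    intro i j hij
    rcases Nat.lt_or_gt_of_ne (fun e => hij (Fin.ext e)) with h | h
    · have := hall (j.val - i.val - 1) (by omega) i.val i.2
      rwa [Nat.mod_eq_of_lt (by omega), show i.val + (j.val - i.val - 1) + 1 = j.val by omega] at this
    · have := hall (n + j.val - i.val) (by omega) i.val i.2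
      rwa [show i.val + (n + j.val - i.val) + 1 = j.val + (n + 1) by omega, Nat.add_mod_right,
        Nat.mod_eq_of_lt j.2] at this
  rw [eq_top_iff, ← LinGrp.closure_transvectionSet, Subgroup.closure_le]
  rintro g ⟨i, j, hij, a, rfl⟩
  obtain ⟨hd, hm⟩ := hpair i j hij a
  have : tv (E (n + 1) F i.val) (a • E (n + 1) F j.val) hd = SpecialLinearGroup.transvection hij a := by
    refine coe_ext ?_
    rw [coe_tv, SpecialLinearGroup.transvection_coe]
    congr 1
    ext p q
    by_cases h1 : p = i <;> by_cases h2 : q = j <;>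
      simp [vecMulVec_apply, Matrix.single_apply, E_eq_single, Pi.single_apply, h1, h2, Ne.symm]
  exact this ▸ hm

/-- The coefficient set of a root subgroup as soon as it is invariant under a square of a generator. -/
theorem addSubgroup_eq_top_of_sq [Finite F] (S : AddSubgroup F) (k : Fˣ)
    (hk : ∀ u : Fˣ, u ∈ Subgroup.zpowers k) (hmul : ∀ c ∈ S, (k : F) ^ 2 * c ∈ S)
    {a : F} (ha : a ∈ S) (ha0 : a ≠ 0) : S = ⊤ := by
  classical
  haveI := Fintype.ofFinite F
  apply AddSubgroup.eq_top_of_card_eq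
  have hpow : ∀ i : ℕ, ((k ^ 2) ^ i : Fˣ) * a ∈ S := by
    intro i
    induction i with
    | zero => simpa using ha
    | succ i ih =>
      have := hmul _ ih
      rw [pow_succ', Units.val_mul, mul_assoc]
      simpa using this
  set N := orderOf (k ^ 2)
  let f : Option (Fin N) → S := fun o => o.elim 0 fun i => ⟨((k ^ 2) ^ i.val : Fˣ) * a, hpow i.val⟩
  have hf : Function.Injective f := by
    rintro (_ | i) (_ | j) h
    · rfl
    · exact absurd (congrArg Subtype.val h).symm (mul_ne_zero (Units.ne_zero _) ha0)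
    · exact absurd (congrArg Subtype.val h) (mul_ne_zero (Units.ne_zero _) ha0)
    · have h1 : ((k ^ 2) ^ i.val : Fˣ) = (k ^ 2) ^ j.val :=
        Units.ext (mul_right_cancel₀ ha0 (congrArg Subtype.val h))
      exact congrArg some (Fin.ext (pow_injOn_Iio_orderOf (x := k ^ 2) i.2 j.2 h1))
  have hcard := Nat.card_le_card_of_injective f hf
  rw [Nat.card_eq_fintype_card, Fintype.card_option, Fintype.card_fin] at hcard
  have hk' : orderOf k = Nat.card F - 1 := by
    rw [← Nat.card_zpowers, (Subgroup.eq_top_iff' _).mpr hk, Subgroup.card_top, Nat.card_units]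
  have h2 : orderOf k ∣ 2 * N := by
    apply orderOf_dvd_of_pow_eq_one
    rw [pow_mul, pow_orderOf_eq_one]
  have hN : 0 < N := orderOf_pos _
  have h3 := Nat.le_of_dvd (by omega) h2
  rw [hk'] at h3
  obtain ⟨c, hc⟩ := AddSubgroup.card_addSubgroup_dvd_card S
  have hq : 1 < Nat.card F := Finite.one_lt_card
  rcases c with _ | _ | c
  · omega
  · omega
  · have h6 : 2 * Nat.card S ≤ Nat.card F := by rw [hc]; nlinarith
    omega

theorem has_of_coe_transvection {m : ℕ} {H : Subgroup (SpecialLinearGroup (Fin m) F)}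
    {g : SpecialLinearGroup (Fin m) F} (hg : g ∈ H) (i j : Fin m) (hij : i ≠ j) (c : F)
    (e : (g : Matrix (Fin m) (Fin m) F) = Matrix.transvection i j c) :
    Has H (E m F i.val) (c • E m F j.val) := by
  refine has_of_mem hg (by rw [smul_dotProduct, E_dot_E (fun h => hij (Fin.ext h.symm)), smul_zero]) ?_
  rw [e, Matrix.transvection]
  congr 1
  ext p q
  by_cases h1 : p = i <;> by_cases h2 : q = j <;>
    simp [vecMulVec_apply, Matrix.single_apply, E_eq_single, Pi.single_apply, h1, h2, Ne.symm]

theorem tv_smul_eq_transvection {m : ℕ} (i j : Fin m) (hij : i ≠ j) (c : F)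
    (hd : (c • E m F j.val) ⬝ᵥ E m F i.val = 0) :
    (tv (E m F i.val) (c • E m F j.val) hd : Matrix (Fin m) (Fin m) F) = Matrix.transvection i j c := by
  rw [coe_tv, Matrix.transvection]
  congr 1
  ext p q
  by_cases h1 : p = i <;> by_cases h2 : q = j <;>
    simp [vecMulVec_apply, Matrix.single_apply, E_eq_single, Pi.single_apply, h1, h2, Ne.symm]

/-- The generation by `h` and `x w`. -/
theorem eq_top_of_h_xw [Fintype F] (hF : 3 < Fintype.card F) (hn : 1 ≤ n) (k : Fˣ)
    (hk : ∀ u : Fˣ, u ∈ Subgroup.zpowers k) (h x w : SpecialLinearGroup (Fin (n + 1)) F)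
    (hh : (h : Matrix (Fin (n + 1)) (Fin (n + 1)) F) =
      diagonal (fun i => if i.val = 0 then (k : F) else if i.val = 1 then ((k⁻¹ : Fˣ) : F) else 1))
    (hx : (x : Matrix (Fin (n + 1)) (Fin (n + 1)) F) = Matrix.transvection (0 : Fin (n + 1)) 1 1)
    (hw : (w : Matrix (Fin (n + 1)) (Fin (n + 1)) F) = cycW n F) :
    Subgroup.closure ({h, x * w} : Set (SpecialLinearGroup (Fin (n + 1)) F)) = ⊤ := by
  classical
  set H := Subgroup.closure ({h, x * w} : Set (SpecialLinearGroup (Fin (n + 1)) F)) with hH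
  have hhH : h ∈ H := Subgroup.subset_closure (Set.mem_insert _ _)
  have hgH : x * w ∈ H := Subgroup.subset_closure (Set.mem_insert_of_mem _ rfl)
  have hk1 : (k : F) ≠ 1 ∧ (k : F) ^ 2 ≠ 1 := by
    have ho : orderOf k = Fintype.card F - 1 := by
      rw [← Nat.card_zpowers, (Subgroup.eq_top_iff' _).mpr hk, Subgroup.card_top, Nat.card_units,
        Nat.card_eq_fintype_card]
    constructor <;> intro e
    · have : k = 1 := Units.ext (by simpa using e)
      rw [this, orderOf_one] at ho; omega
    · have : k ^ 2 = 1 := Units.ext (by simpa using e)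
      have := Nat.le_of_dvd (by norm_num) (orderOf_dvd_of_pow_eq_one this)
      omega
  have h01 : (0 : Fin (n + 1)) ≠ 1 := by
    intro e; have := congrArg Fin.val e; simp [Fin.val_one', Nat.mod_eq_of_lt (by omega : 1 < n + 1)] at this
  have hv1 : ((1 : Fin (n + 1)) : ℕ) = 1 := by simp [Fin.val_one', Nat.mod_eq_of_lt (by omega : 1 < n + 1)]
  -- diagonal elements act on the root subgroup
  have hdiag : ∀ (d : Fin (n + 1) → F) (c : F), (∀ i, d i ≠ 0) →
      diagonal d * Matrix.transvection (0 : Fin (n + 1)) 1 c =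
        Matrix.transvection (0 : Fin (n + 1)) 1 (d 0 * c / d 1) * diagonal d := by
    intro d c hd
    simp only [Matrix.transvection, mul_add, add_mul, one_mul, mul_one]
    congr 1
    ext p q
    rw [diagonal_mul, mul_diagonal, Matrix.single_apply, Matrix.single_apply]
    split_ifs with hpq
    · obtain ⟨rfl, rfl⟩ := hpq
      field_simp [hd 1]
    · simp
  set e : Fin (n + 1) → F := fun i => if i.val = 0 then (k : F) else if i.val = 1 then ((k⁻¹ : Fˣ) : F) else 1
  have he0 : ∀ i, e i ≠ 0 := fun i => by simp only [e]; split_ifs <;> simp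
  set d' : Fin (n + 1) → F := fun i => if hi : i.val + 1 < n + 1 then e ⟨i.val + 1, hi⟩ else e 0
  have hd0 : ∀ i, d' i ≠ 0 := fun i => by simp only [d']; split_ifs <;> exact he0 _
  have hwh : cycW n F * diagonal e = diagonal d' * cycW n F := by
    ext i j
    rw [mul_diagonal, diagonal_mul, cycW_apply]
    simp only [d']
    split_ifs with a b c
    · rw [one_mul, mul_one]; congr 1; exact Fin.ext a
    · omega
    · omega
    · rw [mul_comm]; congr 1; exact congrArg e (Fin.ext (by simpa using c.2))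
    · simp
    · simp
  set t : F := 1 - d' 0 / d' 1
  have ht : t ≠ 0 := by
    intro e0
    have e1 : d' 0 = d' 1 := by
      have := sub_eq_zero.mp e0
      field_simp [hd0 1] at this
      exact this.symm
    have a0 : d' 0 = ((k⁻¹ : Fˣ) : F) := by
      simp only [d', e]; rw [dif_pos (by simp; omega)]; simp [show n ≠ 0 by omega]
    by_cases h2 : n = 1
    · have a1 : d' 1 = (k : F) := by
        simp only [d', e]; rw [dif_neg (by rw [hv1]; omega)]; simp
      rw [a0, a1, Units.val_inv_eq_inv_val] at e1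
      exact hk1.2 (by rw [pow_two]; nth_rewrite 1 [← e1]; exact inv_mul_cancel₀ (Units.ne_zero k))
    · have a1 : d' 1 = 1 := by
        simp only [d', e]; rw [dif_pos (by rw [hv1]; omega)]; simp [hv1, show n ≠ 0 by omega]
      rw [a0, a1, Units.val_inv_eq_inv_val, inv_eq_one] at e1
      exact hk1.1 e1
  -- `(x w) h (x w)⁻¹ = T(t) d'`
  have hconj : (((x * w) * h * (x * w)⁻¹ : SpecialLinearGroup (Fin (n + 1)) F) : Matrix _ _ F) =
      Matrix.transvection (0 : Fin (n + 1)) 1 t * diagonal d' := by
    have : (((x * w) * h : SpecialLinearGroup (Fin (n + 1)) F) : Matrix _ _ F) =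
        Matrix.transvection (0 : Fin (n + 1)) 1 t * diagonal d' * ((x * w : SpecialLinearGroup (Fin (n + 1)) F) : Matrix _ _ F) := by
      simp only [cmul, hx, hw, hh]
      rw [mul_assoc (Matrix.transvection (0 : Fin (n + 1)) 1 1) (cycW n F), hwh, ← mul_assoc,
        ← mul_assoc (Matrix.transvection (0 : Fin (n + 1)) 1 t * diagonal d'),
        mul_assoc (Matrix.transvection (0 : Fin (n + 1)) 1 t) (diagonal d'), hdiag d' 1 hd0,
        ← mul_assoc (Matrix.transvection (0 : Fin (n + 1)) 1 t),
        Matrix.transvection_mul_transvection_same _ _ h01, mul_one]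
      congr 2
      simp [t]
    rw [cmul, this, mul_assoc, ← cmul, mul_inv_cancel, cone, mul_one]
  set u := (x * w) * h * (x * w)⁻¹
  have huH : u ∈ H := H.mul_mem (H.mul_mem hgH hhH) (H.inv_mem hgH)
  have hcomm : ((u * h * u⁻¹ * h⁻¹ : SpecialLinearGroup (Fin (n + 1)) F) : Matrix _ _ F) =
      Matrix.transvection (0 : Fin (n + 1)) 1 (t * (1 - (k : F) ^ 2)) := by
    have he : e 0 / e 1 = (k : F) ^ 2 := by
      simp only [e, hv1]; simp [pow_two, Units.val_inv_eq_inv_val]
    have : ((u * h : SpecialLinearGroup (Fin (n + 1)) F) : Matrix _ _ F) =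
        Matrix.transvection (0 : Fin (n + 1)) 1 (t * (1 - (k : F) ^ 2)) * ((h * u : SpecialLinearGroup (Fin (n + 1)) F) : Matrix _ _ F) := by
      simp only [cmul, hconj, hh]
      rw [← mul_assoc (diagonal e), hdiag e t he0, ← mul_assoc, ← mul_assoc,
        Matrix.transvection_mul_transvection_same _ _ h01, mul_assoc (Matrix.transvection _ _ _),
        diagonal_mul_diagonal, mul_assoc (Matrix.transvection _ _ _), diagonal_mul_diagonal]
      congr 2
      · rw [mul_comm (e 0) t, mul_div_assoc, he]; ring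
      · funext i; ring
    rw [show u * h * u⁻¹ * h⁻¹ = u * h * (h * u)⁻¹ by group, cmul, this, mul_assoc, ← cmul,
      mul_inv_cancel, cone, mul_one]
  let S : AddSubgroup F :=
    { carrier := {c | Has H (E (n + 1) F 0) (c • E (n + 1) F 1)}
      zero_mem' := by show Has H _ _; rw [zero_smul]; exact has_zero_right
      add_mem' := fun {a b} (ha : Has H _ _) (hb : Has H _ _) => by
        show Has H _ _; rw [add_smul]; exact ha.add_right hb
      neg_mem' := fun {a} (ha : Has H _ _) => by show Has H _ _; rw [neg_smul]; exact ha.neg_right }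
  have hS : ∀ (g : SpecialLinearGroup (Fin (n + 1)) F), g ∈ H → ∀ c, (g : Matrix _ _ F) = Matrix.transvection (0 : Fin (n + 1)) 1 c → c ∈ S := by
    intro g hg c e0
    have := has_of_coe_transvection hg 0 1 h01 c e0
    rw [Fin.val_zero, hv1] at this
    exact this
  have hkS : ∀ c ∈ S, (k : F) ^ 2 * c ∈ S := by
    rintro c ⟨hd, hm⟩
    refine hS (h * tv (E (n + 1) F 0) (c • E (n + 1) F 1) hd * h⁻¹) (H.mul_mem (H.mul_mem hhH hm) (H.inv_mem hhH)) _ ?_
    have e1 : ((tv (E (n + 1) F 0) (c • E (n + 1) F 1) hd : SpecialLinearGroup (Fin (n + 1)) F) : Matrix _ _ F) =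
        Matrix.transvection (0 : Fin (n + 1)) 1 c := by
      have := tv_smul_eq_transvection (F := F) (0 : Fin (n + 1)) 1 h01 c (by rw [Fin.val_zero, hv1]; exact hd)
      simp only [Fin.val_zero, hv1] at this
      exact this
    have : e 0 * c / e 1 = (k : F) ^ 2 * c := by
      simp only [e, hv1]; simp [pow_two, Units.val_inv_eq_inv_val]; ring
    rw [cmul, cmul, hh, e1, hdiag e c he0, this, mul_assoc, ← hh, ← cmul, mul_inv_cancel, cone, mul_one]
  have htop : S = ⊤ := addSubgroup_eq_top_of_sq S k hk hkS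
    (hS _ (H.mul_mem (H.mul_mem (H.mul_mem huH hhH) (H.inv_mem huH)) (H.inv_mem hhH)) _ hcomm)
    (mul_ne_zero ht (sub_ne_zero.mpr (Ne.symm hk1.2)))
  have hall : ∀ c, Has H (E (n + 1) F 0) (c • E (n + 1) F 1) := fun c => by
    show c ∈ S; rw [htop]; trivial
  have hxH : x ∈ H := by
    obtain ⟨hd, hm⟩ := hall 1
    have : tv (E (n + 1) F 0) ((1 : F) • E (n + 1) F 1) hd = x := by
      refine coe_ext ?_
      rw [hx]
      have := tv_smul_eq_transvection (F := F) (0 : Fin (n + 1)) 1 h01 1 (by rw [Fin.val_zero, hv1]; exact hd)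
      simp only [Fin.val_zero, hv1] at this
      exact this
    exact this ▸ hm
  refine eq_top_of_cyclic hn H ?_ hw hall
  have := H.mul_mem (H.inv_mem hxH) hgH
  rwa [inv_mul_cancel_left] at this

/-- The generation by `x` and `w` over a prime field. -/
theorem eq_top_of_x_w [Fintype F] (hF : (Fintype.card F).Prime) (hn : 1 ≤ n)
    (x w : SpecialLinearGroup (Fin (n + 1)) F)
    (hx : (x : Matrix (Fin (n + 1)) (Fin (n + 1)) F) = Matrix.transvection (0 : Fin (n + 1)) 1 1)
    (hw : (w : Matrix (Fin (n + 1)) (Fin (n + 1)) F) = cycW n F) :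
    Subgroup.closure ({x, w} : Set (SpecialLinearGroup (Fin (n + 1)) F)) = ⊤ := by
  haveI := Fact.mk hF
  have h01 : (0 : Fin (n + 1)) ≠ 1 := by
    intro e; have := congrArg Fin.val e; simp [Fin.val_one', Nat.mod_eq_of_lt (by omega : 1 < n + 1)] at this
  refine eq_top_of_cyclic hn _ (Subgroup.subset_closure (Set.mem_insert_of_mem _ rfl)) hw fun c => ?_
  have h1 := has_of_coe_transvection (Subgroup.subset_closure (Set.mem_insert x {w})) 0 1 h01 1 hx
  rw [one_smul, Fin.val_zero, Fin.val_one', Nat.mod_eq_of_lt (by omega : 1 < n + 1)] at h1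
  let e := ZMod.ringEquivOfPrime F hF rfl
  obtain ⟨m, rfl⟩ : ∃ m : ℕ, (m : F) = c := ⟨(e.symm c).val, by
    rw [← map_natCast e, ZMod.natCast_zmod_val, e.apply_symm_apply]⟩
  induction m with
  | zero => rw [Nat.cast_zero, zero_smul]; exact has_zero_right
  | succ m ih => rw [Nat.cast_succ, add_smul, one_smul]; exact ih.add_right h1

end Cfsg.Agent.SLGen
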