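/-
Two regular unipotent generators of `SL_n`: the lower bidiagonal `L` and an element `v` whose quotient `v L⁻¹`
is upper triangular with one repeated eigenvalue, so that a power of it is a transvection.
-/
import Cfsg.Agent.Lib.SLGen.Basis

set_option autoImplicit false

namespace Cfsg.Agent.SLGen

open Matrix

variable {F : Type*} [Field F]

/-- Lower bidiagonal unipotent matrix with all ones. -/
def low (n : ℕ) (F : Type*) [Field F] : Matrix (Fin n) (Fin n) F := (bidiag n F)ᵀ

theorem low_apply {n : ℕ} (i j : Fin n) :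
    low n F i j = if i = j then 1 else if j.val + 1 = i.val then 1 else 0 := by
  rw [low, Matrix.transpose_apply, bidiag_apply]
  simp only [eq_comm]

theorem det_low (n : ℕ) : (low n F).det = 1 := by rw [low, det_transpose, det_bidiag]

/-- The element of `SL_n` given by `low`. -/
def lowS (n : ℕ) (F : Type*) [Field F] : SpecialLinearGroup (Fin n) F := ⟨low n F, det_low n⟩

theorem coe_lowS (n : ℕ) : (lowS n F : Matrix (Fin n) (Fin n) F) = low n F := rfl

theorem low_regular {n : ℕ} (hn : 0 < n) : IsNilpotent (low n F - 1) ∧ (low n F - 1) ^ (n - 1) ≠ 0 := by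
  have h : low n F - 1 = (bidiag n F - 1)ᵀ := by rw [transpose_sub, transpose_one]; rfl
  obtain ⟨⟨k, hk⟩, h2⟩ := bidiag_regular (F := F) hn
  refine ⟨⟨k, by rw [h, ← transpose_pow, hk, transpose_zero]⟩, fun h3 => h2 ?_⟩
  rw [h, ← transpose_pow, ← transpose_zero, transpose_inj] at h3
  exact h3

/-- A vector as a combination of basis vectors. -/
theorem sum_E {n : ℕ} (φ : Fin n → F) : φ = ∑ i : Fin n, φ i • E n F i.val := by
  funext j
  simp [E_apply, Finset.sum_apply, Fin.val_inj]

theorem E_vecMul_low {n j : ℕ} (hj : j + 1 < n) :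
    E n F (j + 1) ᵥ* low n F = E n F (j + 1) + E n F j := by
  funext i
  rw [vecMul_E _ hj, low_apply, Pi.add_apply, E_apply, E_apply]
  simp only [Fin.ext_iff]
  split_ifs <;> first | contradiction | omega | simp

theorem E_zero_vecMul_low {n : ℕ} (hn : 0 < n) : E n F 0 ᵥ* low n F = E n F 0 := by
  funext i
  rw [vecMul_E _ hn, low_apply, E_apply]
  simp only [Fin.ext_iff]
  split_ifs <;> first | contradiction | omega | simp

theorem low_mulVec_E {n j : ℕ} (hj : j < n) : low n F *ᵥ E n F j = E n F j + E n F (j + 1) := by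
  funext i
  rw [mulVec_E _ hj, low_apply, Pi.add_apply, E_apply, E_apply]
  simp only [Fin.ext_iff]
  split_ifs <;> first | contradiction | omega | simp

/-- The alternating vector `low⁻¹ e₀`. -/
def alt (n : ℕ) (F : Type*) [Field F] : Fin n → F := fun i => (-1 : F) ^ i.val

theorem low_mulVec_alt {n : ℕ} : low n F *ᵥ alt n F = E n F 0 := by
  funext i
  show low n F i ⬝ᵥ alt n F = E n F 0 i
  have : low n F i = if i.val = 0 then E n F 0 else E n F (i.val - 1) + E n F i.val := by
    have hrow : low n F i = E n F i.val ᵥ* low n F := by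
      funext k; rw [vecMul_E _ i.isLt]
    have hlt := i.isLt
    rw [hrow]
    split_ifs with h
    · rw [h, E_zero_vecMul_low (by omega)]
    · obtain ⟨m, hm⟩ : ∃ m, i.val = m + 1 := ⟨i.val - 1, by omega⟩
      rw [hm, E_vecMul_low (by omega), Nat.add_sub_cancel, add_comm]
  rw [this, E_apply]
  split_ifs with h
  · rw [E_dot _ (by omega : 0 < n)]; simp [alt]
  · have hlt := i.isLt
    rw [add_dotProduct, E_dot _ (by omega : i.val - 1 < n), E_dot _ hlt]
    simp only [alt]
    obtain ⟨m, hm⟩ : ∃ m, i.val = m + 1 := ⟨i.val - 1, by omega⟩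
    rw [hm, Nat.add_sub_cancel, pow_succ]
    ring

theorem lowS_inv_mulVec {n : ℕ} :
    (((lowS n F)⁻¹ : SpecialLinearGroup (Fin n) F) : Matrix (Fin n) (Fin n) F) *ᵥ E n F 0 = alt n F := by
  rw [← low_mulVec_alt, mulVec_mulVec, ← coe_lowS, ← cmul, inv_mul_cancel, cone, one_mulVec]

/-- Closing off: all multiples of `E₀ ⊗ e_{n-2}` and one `E₀ ⊗ e_{n-1}`, with `L`, generate. -/
theorem eq_top_of_low {n : ℕ} (hn : 3 ≤ n) (H : Subgroup (SpecialLinearGroup (Fin n) F))
    (hu : lowS n F ∈ H) (hfull : ∀ t : F, Has H (E n F 0) (t • E n F (n - 2)))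
    (c : F) (hc : c ≠ 0) (hseed : Has H (E n F 0) (c • E n F (n - 1))) : H = ⊤ := by
  -- transfer of an axis from `L⁻¹ E₀` to `E₀`
  have trans : ∀ (a : F) (j : ℕ), j + 1 < n → 1 ≤ j → Has H (E n F 0) (a • E n F (j + 1)) →
      Has H (E n F 0) (a • (E n F (j + 1) + E n F j)) := by
    intro a j hj h1 h
    have h2 := h.conj (H.inv_mem hu)
    rw [lowS_inv_mulVec, inv_inv, smul_vecMul, coe_lowS, E_vecMul_low hj] at h2
    set e : F := (-1 : F) ^ (n - 2) with he
    have he2 : e * e = 1 := by rw [he, ← mul_pow]; simp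
    have h3 := h2.comm_right (hfull e) (by
      rw [smul_dotProduct, add_dotProduct, E_dot_E (by omega), E_dot_E (by omega)]; simp)
    have h4 : (e • E n F (n - 2)) ⬝ᵥ alt n F = 1 := by
      rw [smul_dotProduct, E_dot _ (by omega : n - 2 < n), smul_eq_mul]; exact he2
    rwa [h4, one_smul] at h3
  -- the last axis
  have hsum : ∀ t : F, Has H (E n F 0) (t • (E n F (n - 1) + E n F (n - 2))) := by
    intro t
    have h2 := hseed.conj (H.inv_mem hu)
    obtain ⟨m, hm⟩ : ∃ m, n - 1 = m + 1 := ⟨n - 2, by omega⟩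
    have hm2 : n - 2 = m := by omega
    rw [lowS_inv_mulVec, inv_inv, smul_vecMul, coe_lowS, hm, E_vecMul_low (by omega)] at h2
    rw [hm, hm2]
    set e : F := (-1 : F) ^ m with he
    have he2 : e * e = 1 := by rw [he, ← mul_pow]; simp
    have hf := hfull (e * t / c)
    rw [hm2] at hf
    have h3 := h2.comm_right hf (by
      rw [smul_dotProduct, add_dotProduct, E_dot_E (by omega), E_dot_E (by omega)]; simp)
    have h4 : ((e * t / c) • E n F m) ⬝ᵥ alt n F = t / c := by
      rw [smul_dotProduct, E_dot _ (by omega : m < n), smul_eq_mul]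
      show e * t / c * e = t / c
      linear_combination (t / c) * he2
    rw [h4, smul_smul, div_mul_cancel₀ t hc] at h3
    exact h3
  have hlast : ∀ t : F, Has H (E n F 0) (t • E n F (n - 1)) := by
    intro t
    have := (hsum t).sub_right (hfull t)
    rwa [smul_add, add_sub_cancel_right] at this
  have hdown : ∀ k, k + 3 ≤ n → ∀ t : F, Has H (E n F 0) (t • E n F (n - 2 - k)) := by
    intro k
    induction k with
    | zero => exact fun _ => hfull
    | succ k ih =>
      intro hk t
      obtain ⟨j, hj⟩ : ∃ j, n - 2 - k = j + 1 := ⟨n - 2 - k - 1, by omega⟩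
      rw [show n - 2 - (k + 1) = j by omega]
      have h1 := ih (by omega) t
      rw [hj] at h1
      have h2 := (trans t j (by omega) (by omega) h1).sub_right h1
      rwa [smul_add, add_sub_cancel_left] at h2
  have hcentre : E n F 0 ∈ centres H := by
    intro φ hφ
    rw [sum_E φ]
    refine Finset.sum_induction _ (fun z => Has H (E n F 0) z) (fun p q hp hq => hp.add_right hq)
      has_zero_right ?_
    intro i _
    have := i.isLt
    rcases Nat.eq_zero_or_pos i.val with h | h
    · rw [dot_E _ (by omega : 0 < n)] at hφ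
      have hi : φ i = 0 := by rw [← hφ]; congr 1; exact Fin.ext h
      rw [hi, zero_smul]; exact has_zero_right
    · rcases eq_or_ne i.val (n - 1) with h1 | h1
      · rw [h1]; exact hlast _
      · have := hdown (n - 2 - i.val) (by omega) (φ i)
        rwa [show n - 2 - (n - 2 - i.val) = i.val by omega] at this
  have hall : ∀ k, k < n → E n F k ∈ centres H := by
    intro k
    induction k with
    | zero => exact fun _ => hcentre
    | succ k ih =>
      intro hk
      have h1 := centres_mulVec hu (ih (by omega))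
      rw [coe_lowS, low_mulVec_E (by omega)] at h1
      have h2 := (centres H).sub_mem h1 (ih (by omega))
      rwa [add_sub_cancel_left] at h2
  refine eq_top_of_centres fun i => ?_
  rw [← E_eq_single]
  exact hall _ i.isLt

section Construction

variable (n : ℕ) (d : ℕ → F)

/-- Downward recursion solving the rows `≥ 1` of `(v - 1) p = t`, indexed from the top. -/
def preQ (t : ℕ → F) (top : F) : ℕ → F
  | 0 => top
  | m + 1 => (t (n - 1 - m) - (d (n - 1 - m) - 1) * preQ t top m) / d (n - 1 - m)

/-- The preimage of `t`, indexed from the bottom. -/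
def pre (t : ℕ → F) (top : F) : ℕ → F := fun i => preQ n d t top (n - 1 - i)

/-- The cyclic basis, from the fixed vector up. -/
def chain : ℕ → ℕ → F
  | 0 => pre n d (fun _ => 0) 1
  | k + 1 => pre n d (chain k) 0

/-- The change of basis taking `low` to `v`. -/
def cyc : Matrix (Fin n) (Fin n) F := Matrix.of fun i j => chain n d (n - 1 - j.val) i.val

variable {n d}

theorem pre_eq (hd : ∀ i < n, d i ≠ 0) (t : ℕ → F) (top : F) {i : ℕ} (h1 : 1 ≤ i) (h2 : i < n) :
    d i * pre n d t top (i - 1) + (d i - 1) * pre n d t top i = t i := by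
  unfold pre
  obtain ⟨m, hm⟩ : ∃ m, n - 1 - i = m := ⟨_, rfl⟩
  rw [show n - 1 - (i - 1) = m + 1 by omega, hm, preQ, show n - 1 - m = i by omega]
  field_simp [hd i h2]
  ring

theorem preQ_zero (t : ℕ → F) (k : ℕ) (hk : k < n) (ht : ∀ i, i < n → n - 1 - k < i → t i = 0) :
    ∀ m, m ≤ k → preQ n d t 0 m = 0 := by
  intro m
  induction m with
  | zero => intro _; rfl
  | succ m ih =>
    intro hm
    rw [preQ, ih (by omega), ht (n - 1 - m) (by omega) (by omega)]
    simp

theorem chain_support : ∀ k, k < n →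
    (∀ i, i < n → n - 1 - k < i → chain n d k i = 0) ∧
      chain n d k (n - 1 - k) = ∏ m ∈ Finset.range k, (d (n - 1 - m))⁻¹ := by
  intro k
  induction k with
  | zero =>
    intro hk
    refine ⟨fun i hi h => by omega, ?_⟩
    simp [chain, pre, preQ]
  | succ k ih =>
    intro hk
    obtain ⟨hz, hdiag⟩ := ih (by omega)
    refine ⟨fun i hi h => preQ_zero _ k (by omega) hz _ (by omega), ?_⟩
    show preQ n d (chain n d k) 0 (n - 1 - (n - 1 - (k + 1))) = _
    rw [show n - 1 - (n - 1 - (k + 1)) = k + 1 by omega, preQ, preQ_zero _ k (by omega) hz k le_rfl,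
      mul_zero, sub_zero, hdiag, Finset.prod_range_succ, div_eq_mul_inv]

theorem det_cyc : (cyc n d).det = ∏ j : Fin n, ∏ m ∈ Finset.range (n - 1 - j.val), (d (n - 1 - m))⁻¹ := by
  rw [Matrix.det_of_upperTriangular]
  · refine Finset.prod_congr rfl fun j _ => ?_
    have := j.isLt
    have h := (chain_support (n := n) (d := d) (n - 1 - j.val) (by omega)).2
    rw [show n - 1 - (n - 1 - j.val) = j.val by omega] at h
    exact h
  · intro i j hij
    have h : j.val < i.val := hij
    have := i.isLt
    exact (chain_support (n - 1 - j.val) (by omega)).1 _ i.isLt (by omega)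

theorem isUnit_det_cyc (hd : ∀ i < n, d i ≠ 0) : IsUnit (cyc n d).det := by
  rw [det_cyc, isUnit_iff_ne_zero, Finset.prod_ne_zero_iff]
  intro j _
  rw [Finset.prod_ne_zero_iff]
  intro m _
  have := j.isLt
  exact inv_ne_zero (hd _ (by omega))

/-- The second generator. -/
noncomputable def vS (hd : ∀ i < n, d i ≠ 0) : SpecialLinearGroup (Fin n) F :=
  ⟨cyc n d * low n F * (cyc n d)⁻¹, by
    rw [det_mul, det_mul, det_low, mul_one, ← det_mul, Matrix.mul_nonsing_inv _ (isUnit_det_cyc hd), det_one]⟩

variable (hd : ∀ i < n, d i ≠ 0)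

theorem coe_vS : (vS hd : Matrix (Fin n) (Fin n) F) = cyc n d * low n F * (cyc n d)⁻¹ := rfl

theorem vS_mul_cyc : (vS hd : Matrix (Fin n) (Fin n) F) * cyc n d = cyc n d * low n F := by
  rw [coe_vS, Matrix.mul_assoc, Matrix.nonsing_inv_mul _ (isUnit_det_cyc hd), Matrix.mul_one]

theorem vS_regular (hn : 0 < n) :
    IsNilpotent ((vS hd : Matrix (Fin n) (Fin n) F) - 1) ∧
      ((vS hd : Matrix (Fin n) (Fin n) F) - 1) ^ (n - 1) ≠ 0 := by
  have key : ∀ k : ℕ, ((vS hd : Matrix (Fin n) (Fin n) F) - 1) ^ k * cyc n d = cyc n d * (low n F - 1) ^ k := by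
    intro k
    induction k with
    | zero => simp
    | succ k ih =>
      rw [pow_succ, Matrix.mul_assoc, Matrix.sub_mul, vS_mul_cyc, Matrix.one_mul,
        show cyc n d * low n F - cyc n d = cyc n d * (low n F - 1) by rw [Matrix.mul_sub, Matrix.mul_one],
        ← Matrix.mul_assoc, ih, Matrix.mul_assoc, ← pow_succ]
  obtain ⟨⟨k, hk⟩, h2⟩ := low_regular (F := F) hn
  refine ⟨⟨k, ?_⟩, fun h3 => h2 ?_⟩
  · have := key k
    rw [hk, Matrix.mul_zero] at this
    calc ((vS hd : Matrix (Fin n) (Fin n) F) - 1) ^ k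
        = ((vS hd : Matrix (Fin n) (Fin n) F) - 1) ^ k * cyc n d * (cyc n d)⁻¹ := by
          rw [Matrix.mul_assoc, Matrix.mul_nonsing_inv _ (isUnit_det_cyc hd), Matrix.mul_one]
      _ = 0 := by rw [this, Matrix.zero_mul]
  · have := key (n - 1)
    rw [h3, Matrix.zero_mul] at this
    calc (low n F - 1) ^ (n - 1) = (cyc n d)⁻¹ * (cyc n d * (low n F - 1) ^ (n - 1)) := by
          rw [← Matrix.mul_assoc, Matrix.nonsing_inv_mul _ (isUnit_det_cyc hd), Matrix.one_mul]
      _ = 0 := by rw [← this, Matrix.mul_zero]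

theorem vS_isConj (c : F) (hc : c ^ n * (cyc n d).det = 1) :
    ∃ g : SpecialLinearGroup (Fin n) F, vS hd = g * lowS n F * g⁻¹ := by
  let g : SpecialLinearGroup (Fin n) F := ⟨c • cyc n d, by rw [det_smul, Fintype.card_fin, hc]⟩
  refine ⟨g, ?_⟩
  rw [eq_mul_inv_iff_mul_eq]
  apply coe_ext
  rw [cmul, cmul]
  show (vS hd : Matrix (Fin n) (Fin n) F) * (c • cyc n d) = (c • cyc n d) * low n F
  rw [Matrix.mul_smul, vS_mul_cyc, Matrix.smul_mul]

/-- The quotient `v L⁻¹`. -/
noncomputable def tS : SpecialLinearGroup (Fin n) F := vS hd * (lowS n F)⁻¹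

theorem tS_mul_low : ((tS hd : SpecialLinearGroup (Fin n) F) : Matrix (Fin n) (Fin n) F) * low n F = vS hd := by
  rw [← coe_lowS, ← cmul, tS, inv_mul_cancel_right]

theorem E_vecMul_tS {k : ℕ} (h1 : 1 ≤ k) (h2 : k < n) :
    E n F k ᵥ* (tS hd : Matrix (Fin n) (Fin n) F) = d k • E n F k := by
  have hrow : (E n F k ᵥ* (vS hd : Matrix (Fin n) (Fin n) F)) = d k • (E n F k + E n F (k - 1)) := by
    have hinj : ∀ x y : Fin n → F, x ᵥ* cyc n d = y ᵥ* cyc n d → x = y := by
      intro x y h
      have h3 := congrArg (fun z => z ᵥ* (cyc n d)⁻¹) h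
      simpa [vecMul_vecMul, Matrix.mul_nonsing_inv _ (isUnit_det_cyc hd)] using h3
    refine hinj _ _ ?_
    rw [vecMul_vecMul, vS_mul_cyc, ← vecMul_vecMul]
    funext j
    have hjn := j.isLt
    rw [smul_vecMul, add_vecMul, Pi.smul_apply, Pi.add_apply, vecMul_E _ h2, vecMul_E _ (by omega : k - 1 < n)]
    show (E n F k ᵥ* cyc n d) ⬝ᵥ (fun i => low n F i j) = _
    have hcol : (fun i => low n F i j) = E n F j.val + E n F (j.val + 1) := by
      funext i
      rw [← low_mulVec_E j.isLt, mulVec_E _ j.isLt]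
    rw [hcol, dotProduct_add, dot_E _ hjn, vecMul_E _ h2]
    simp only [smul_eq_mul, cyc, Matrix.of_apply]
    rcases Nat.lt_or_ge (j.val + 1) n with hj | hj
    · rw [dot_E _ hj, vecMul_E _ h2]
      simp only [Matrix.of_apply]
      obtain ⟨m, hm⟩ : ∃ m, n - 1 - j.val = m + 1 := ⟨n - 2 - j.val, by omega⟩
      rw [hm, show n - 1 - (j.val + 1) = m by omega, chain]
      linear_combination -(pre_eq hd (chain n d m) 0 h1 h2)
    · have : E n F (j.val + 1) = 0 := by funext i; simp [E_apply]; omega
      rw [this, dotProduct_zero, show n - 1 - j.val = 0 by omega, chain]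
      linear_combination -(pre_eq hd (fun _ => 0) 1 h1 h2)
  have hu : ∀ x y : Fin n → F, x ᵥ* low n F = y ᵥ* low n F → x = y := by
    intro x y h
    have h3 := congrArg (fun z => z ᵥ* (((lowS n F)⁻¹ : SpecialLinearGroup (Fin n) F) : Matrix (Fin n) (Fin n) F)) h
    simpa only [vecMul_vecMul, ← coe_lowS, ← cmul, mul_inv_cancel, cone, vecMul_one] using h3
  refine hu _ _ ?_
  rw [vecMul_vecMul, tS_mul_low, hrow, smul_vecMul]
  obtain ⟨j, rfl⟩ : ∃ j, k = j + 1 := ⟨k - 1, by omega⟩
  rw [E_vecMul_low h2, Nat.add_sub_cancel]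

theorem tS_apply {i j : Fin n} (hi : 1 ≤ i.val) :
    (tS hd : Matrix (Fin n) (Fin n) F) i j = if j = i then d i.val else 0 := by
  have h := congrFun (E_vecMul_tS hd hi i.isLt) j
  rw [vecMul_E _ i.isLt] at h
  rw [h]
  simp [E_apply, Fin.ext_iff]

theorem tS_zero_zero (hn : 0 < n) (hprod : ∏ i : Fin n, d i.val = 1) :
    (tS hd : Matrix (Fin n) (Fin n) F) ⟨0, hn⟩ ⟨0, hn⟩ = d 0 := by
  have h1 := (tS hd).2
  rw [Matrix.det_of_upperTriangular] at h1
  · rw [← Finset.mul_prod_erase _ _ (Finset.mem_univ (⟨0, hn⟩ : Fin n))] at h1 hprod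
    have h2 : ∏ i ∈ Finset.univ.erase (⟨0, hn⟩ : Fin n), (tS hd : Matrix (Fin n) (Fin n) F) i i =
        ∏ i ∈ Finset.univ.erase (⟨0, hn⟩ : Fin n), d i.val := by
      refine Finset.prod_congr rfl fun i hi => ?_
      have : i.val ≠ 0 := fun h => (Finset.ne_of_mem_erase hi) (Fin.ext h)
      rw [tS_apply hd (by omega), if_pos rfl]
    rw [h2] at h1
    refine mul_right_cancel₀ ?_ (h1.trans hprod.symm)
    rw [Finset.prod_ne_zero_iff]
    exact fun i _ => hd _ i.isLt
  · intro i j hij
    have h : j < i := hij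
    have h' : j.val < i.val := h
    rw [tS_apply hd (by omega), if_neg h.ne]

end Construction

/-- The generation theorem for the constructed pair. -/
theorem two_gen [Finite F] {n : ℕ} (hn : 3 ≤ n) {d : ℕ → F} (hd : ∀ i < n, d i ≠ 0)
    (hprod : ∏ i : Fin n, d i.val = 1) (hlast : d (n - 1) = d 0) (hα1 : d 0 ≠ 1)
    (hmid : ∀ i, 1 ≤ i → i + 1 < n → d i ≠ d 0)
    (hγ : Subring.closure ({d 0 / d (n - 2)} : Set F) = ⊤) :
    Subgroup.closure ({lowS n F, vS hd} : Set (SpecialLinearGroup (Fin n) F)) = ⊤ := by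
  classical
  haveI : Fintype F := Fintype.ofFinite F
  set H := Subgroup.closure ({lowS n F, vS hd} : Set (SpecialLinearGroup (Fin n) F)) with hH
  have hu : lowS n F ∈ H := Subgroup.subset_closure (by simp)
  have hv : vS hd ∈ H := Subgroup.subset_closure (by simp)
  have hT : tS hd ∈ H := H.mul_mem hv (H.inv_mem hu)
  set α := d 0 with hα
  have hα0 : α ≠ 0 := hd 0 (by omega)
  have hn0 : 0 < n := by omega
  -- the first row
  set r : Fin n → F := fun j => if j.val = 0 then 0 else (tS hd : Matrix (Fin n) (Fin n) F) ⟨0, hn0⟩ j with hr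
  have hTE : (tS hd : Matrix (Fin n) (Fin n) F) = Matrix.diagonal (fun i : Fin n => d i.val) + vecMulVec (E n F 0) r := by
    ext i j
    rw [Matrix.add_apply, vecMulVec_apply, E_apply]
    rcases Nat.eq_zero_or_pos i.val with hi | hi
    · have hi' : i = ⟨0, hn0⟩ := Fin.ext hi
      subst hi'
      simp only [if_true, one_mul, hr]
      by_cases hj : j.val = 0
      · have : j = ⟨0, hn0⟩ := Fin.ext hj
        subst this
        simp [tS_zero_zero hd hn0 hprod, hα]
      · rw [if_neg hj, Matrix.diagonal_apply_ne _ (by intro e; exact hj (congrArg Fin.val e).symm), zero_add]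
    · rw [if_neg (by omega : ¬ i.val = 0), zero_mul, add_zero, tS_apply hd hi, Matrix.diagonal_apply]
      by_cases h : i = j
      · rw [if_pos h, if_pos h.symm]
      · rw [if_neg h, if_neg (fun e => h e.symm)]
  have hr0 : r ⬝ᵥ E n F 0 = 0 := by rw [dot_E _ hn0]; simp [hr]
  -- powers
  let G : ℕ → Fin n → F := fun k => Nat.rec (motive := fun _ => Fin n → F) 0
    (fun k Gk j => Gk j * d j.val + α ^ k) k
  have hG0 : G 0 = 0 := rfl
  have hGs : ∀ k j, G (k + 1) j = G k j * d j.val + α ^ k := fun k j => rfl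
  have hpow : ∀ k, ((tS hd : Matrix (Fin n) (Fin n) F)) ^ k =
      Matrix.diagonal (fun i : Fin n => d i.val ^ k) + vecMulVec (E n F 0) (fun j => r j * G k j) := by
    intro k
    induction k with
    | zero =>
      ext i j
      simp [hG0, vecMulVec_apply, Matrix.one_apply, Matrix.diagonal_apply]
    | succ k ih =>
      rw [pow_succ, ih, hTE, add_mul, mul_add, mul_add, Matrix.diagonal_mul_diagonal, vecMulVec_mul,
        mul_vecMulVec, vecMulVec_mul_vecMulVec,
        show (fun j => r j * G k j) ⬝ᵥ E n F 0 = 0 by rw [dot_E _ hn0]; simp [hr],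
        zero_smul, vecMulVec_zero, add_zero]
      ext i j
      simp only [Matrix.add_apply, vecMulVec_apply, mulVec_diagonal, vecMul_diagonal, E_apply, hGs,
        Matrix.diagonal_apply]
      by_cases hi : i.val = 0
      · rw [hα, ← hi]; split_ifs <;> ring
      · simp only [hi, if_false]; split_ifs <;> ring
  have hGα : ∀ k (j : Fin n), G k j * (α - d j.val) = α ^ k - d j.val ^ k := by
    intro k j
    induction k with
    | zero => simp [hG0]
    | succ k ih => rw [hGs]; linear_combination (d j.val) * ih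
  have hGeq : ∀ k (j : Fin n), d j.val = α → α * G k j = (k : F) * α ^ k := by
    intro k j hj
    induction k with
    | zero => simp [hG0]
    | succ k ih => rw [hGs, hj]; push_cast; linear_combination α * ih
  set m := Fintype.card F - 1 with hm
  have hcard := Fintype.one_lt_card (α := F)
  have hpm : ∀ i, i < n → d i ^ m = 1 := fun i hi => FiniteField.pow_card_sub_one_eq_one _ (hd i hi)
  have hm1 : (m : F) = -1 := by
    rw [hm, Nat.cast_sub (by omega), FiniteField.cast_card_eq_zero]; simp
  set L : Fin n := ⟨n - 1, by omega⟩ with hL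
  -- the corner entry is non-zero
  have hz : r L ≠ 0 := by
    intro h0
    have h1 : (tS hd : Matrix (Fin n) (Fin n) F) *ᵥ E n F (n - 1) = α • E n F (n - 1) := by
      rw [hTE, add_mulVec, vecMulVec_mulVec, dot_E _ (by omega : n - 1 < n)]
      rw [show r ⟨n - 1, by omega⟩ = 0 from h0]
      funext i
      rw [Pi.add_apply, Pi.smul_apply, Pi.smul_apply, MulOpposite.op_zero, zero_smul, add_zero,
        mulVec_diagonal, E_apply, smul_eq_mul]
      split_ifs with h
      · rw [h, hlast]
      · simp
    have h2 : (vS hd : Matrix (Fin n) (Fin n) F) *ᵥ E n F (n - 1) = α • E n F (n - 1) := by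
      rw [← tS_mul_low hd, ← mulVec_mulVec, low_mulVec_E (by omega), show n - 1 + 1 = n by omega]
      rw [show E n F n = 0 by funext i; simp [E_apply, i.isLt.ne], add_zero, h1]
    set y := (cyc n d)⁻¹ *ᵥ E n F (n - 1) with hy
    have h3 : low n F *ᵥ y = α • y := by
      have h4 := congrArg (fun z => (cyc n d)⁻¹ *ᵥ z) h2
      simp only [mulVec_smul, mulVec_mulVec, coe_vS] at h4
      rw [← Matrix.mul_assoc, ← Matrix.mul_assoc, Matrix.nonsing_inv_mul _ (isUnit_det_cyc hd),
        Matrix.one_mul] at h4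
      rw [hy, mulVec_mulVec, h4]
    have hy0 : ∀ i, ∀ hi : i < n, y ⟨i, hi⟩ = 0 := by
      intro i
      induction i using Nat.strong_induction_on with
      | _ i ih =>
        intro hi
        have h5 := congrFun h3 ⟨i, hi⟩
        rw [Pi.smul_apply, smul_eq_mul] at h5
        have h6 : (low n F *ᵥ y) ⟨i, hi⟩ = y ⟨i, hi⟩ := by
          show low n F ⟨i, hi⟩ ⬝ᵥ y = _
          rw [show low n F ⟨i, hi⟩ = E n F i ᵥ* low n F by funext l; rw [vecMul_E _ hi]]
          rcases Nat.eq_zero_or_pos i with rfl | hpos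
          · rw [E_zero_vecMul_low hn0, E_dot _ hi]
          · obtain ⟨i', rfl⟩ : ∃ i', i = i' + 1 := ⟨i - 1, by omega⟩
            rw [E_vecMul_low hi, add_dotProduct, E_dot _ hi, E_dot _ (by omega : i' < n),
              ih i' (by omega) (by omega), add_zero]
        rw [h6] at h5
        have h7 : (1 - α) * y ⟨i, hi⟩ = 0 := by linear_combination h5
        exact (mul_eq_zero.1 h7).resolve_left (sub_ne_zero.2 (Ne.symm hα1))
    have h8 : cyc n d *ᵥ y = E n F (n - 1) := by
      rw [hy, mulVec_mulVec, Matrix.mul_nonsing_inv _ (isUnit_det_cyc hd), one_mulVec]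
    rw [show y = 0 from funext fun i => hy0 i.val i.isLt, mulVec_zero] at h8
    have h9 := congrFun h8 L
    simp [E_apply, hL] at h9
  -- the transvection
  set c : F := r L * (-α⁻¹) with hc
  have hc0 : c ≠ 0 := mul_ne_zero hz (neg_ne_zero.2 (inv_ne_zero hα0))
  have hseed : Has H (E n F 0) (c • E n F (n - 1)) := by
    refine has_of_mem (H.pow_mem hT m) (by rw [smul_dotProduct, E_dot_E (by omega), smul_zero]) ?_
    rw [Matrix.SpecialLinearGroup.coe_pow, hpow]
    congr 1
    · rw [show (fun i : Fin n => d i.val ^ m) = fun _ => (1 : F) from funext fun i => hpm _ i.isLt]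
      exact Matrix.diagonal_one
    · congr 1
      funext j
      rw [Pi.smul_apply, E_apply, smul_eq_mul]
      rcases eq_or_ne j.val 0 with hj | hj
      · rw [show r j = 0 by simp [hr, hj], zero_mul, if_neg (by omega), mul_zero]
      rcases eq_or_ne j.val (n - 1) with hj' | hj'
      · have : j = L := Fin.ext hj'
        subst this
        rw [if_pos hj', mul_one, hc]
        have h1 := hGeq m L (by rw [hj', hlast])
        rw [hm1, show α ^ m = 1 from hpm 0 hn0] at h1
        rw [show G m L = -α⁻¹ by field_simp; linear_combination h1]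
      · rw [if_neg hj', mul_zero]
        have hj2 := j.isLt
        have h1 := hGα m j
        rw [hpm _ j.isLt, show α ^ m = 1 from hpm 0 hn0, sub_self, mul_eq_zero] at h1
        rw [h1.resolve_right (sub_ne_zero.2 (Ne.symm (hmid _ (by omega) (by omega)))), mul_zero]
  -- action of `T` on transvections with centre `E₀`
  have hTinv : ∀ k, 1 ≤ k → k < n → E n F k ᵥ* (((tS hd)⁻¹ : SpecialLinearGroup (Fin n) F) : Matrix (Fin n) (Fin n) F) =
      (d k)⁻¹ • E n F k := by
    intro k h1 h2
    have h3 := congrArg (fun z => z ᵥ* (((tS hd)⁻¹ : SpecialLinearGroup (Fin n) F) : Matrix (Fin n) (Fin n) F))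
      (E_vecMul_tS hd h1 h2)
    simp only [vecMul_vecMul, ← cmul, mul_inv_cancel, cone, vecMul_one, smul_vecMul] at h3
    conv_rhs => rw [h3, smul_smul, inv_mul_cancel₀ (hd k h2), one_smul]
  have hTE0 : (tS hd : Matrix (Fin n) (Fin n) F) *ᵥ E n F 0 = α • E n F 0 := by
    rw [hTE, add_mulVec, vecMulVec_mulVec, hr0]
    funext i
    rw [Pi.add_apply, Pi.smul_apply, Pi.smul_apply, MulOpposite.op_zero, zero_smul, add_zero,
      mulVec_diagonal, E_apply, smul_eq_mul]
    split_ifs with h
    · rw [h]
    · simp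
  set β := d (n - 2) with hβ
  have hβ0 : β ≠ 0 := hd _ (by omega)
  have hconjT : ∀ a b : F, Has H (E n F 0) (a • E n F (n - 2) + b • E n F (n - 1)) →
      Has H (E n F 0) ((a * (α / β)) • E n F (n - 2) + b • E n F (n - 1)) := by
    intro a b h
    have h1 := h.conj hT
    rw [hTE0, add_vecMul, smul_vecMul, smul_vecMul, hTinv _ (by omega) (by omega),
      hTinv _ (by omega) (by omega), hlast, smul_smul, smul_smul] at h1
    have h2 := h1.swap_smul α (by
      rw [add_dotProduct, smul_dotProduct, smul_dotProduct, E_dot_E (by omega), E_dot_E (by omega)]; simp)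
    rw [smul_add, smul_smul, smul_smul] at h2
    convert h2 using 2
    · congr 1; rw [← hβ, div_eq_mul_inv]; ring
    · congr 1; field_simp
  have hγ1 : α / β ≠ 1 := by
    intro h
    exact hmid (n - 2) (by omega) (by omega) ((div_eq_one_iff_eq hβ0).1 h).symm
  -- a non-zero multiple of `E₀ ⊗ e_{n-2}`
  obtain ⟨e₀, he₀, hPe⟩ : ∃ e : F, e ≠ 0 ∧ Has H (E n F 0) (e • E n F (n - 2)) := by
    have h2 := hseed.conj (H.inv_mem hu)
    obtain ⟨j, hj⟩ : ∃ j, n - 1 = j + 1 := ⟨n - 2, by omega⟩
    rw [lowS_inv_mulVec, inv_inv, smul_vecMul, coe_lowS, hj, E_vecMul_low (by omega)] at h2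
    have h3 := h2.comm_right hseed (by
      rw [smul_dotProduct, add_dotProduct, E_dot_E (by omega), E_dot_E (by omega)]; simp)
    have h4 : (c • E n F (n - 1)) ⬝ᵥ alt n F = c * (-1) ^ (n - 1) := by
      rw [smul_dotProduct, E_dot _ (by omega : n - 1 < n), smul_eq_mul]; rfl
    rw [h4, smul_smul, smul_add, ← hj, show j = n - 2 by omega] at h3
    set k := c * (-1) ^ (n - 1) * c with hk
    have hk0 : k ≠ 0 := mul_ne_zero (mul_ne_zero hc0 (pow_ne_zero _ (by simp))) hc0
    rw [add_comm] at h3
    have h5 := (hconjT k k h3).sub_right h3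
    rw [add_sub_add_right_eq_sub, ← sub_smul] at h5
    refine ⟨_, ?_, h5⟩
    rw [show k * (α / β) - k = k * (α / β - 1) by ring]
    exact mul_ne_zero hk0 (sub_ne_zero.2 hγ1)
  let S : Subring F :=
    { carrier := {x | ∀ e : F, Has H (E n F 0) (e • E n F (n - 2)) → Has H (E n F 0) ((e * x) • E n F (n - 2))}
      one_mem' := fun e he => by rwa [mul_one]
      mul_mem' := fun {x y} hx hy e he => by rw [← mul_assoc]; exact hy _ (hx e he)
      zero_mem' := fun e _ => by rw [mul_zero, zero_smul]; exact has_zero_right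
      add_mem' := fun {x y} hx hy e he => by rw [mul_add, add_smul]; exact (hx e he).add_right (hy e he)
      neg_mem' := fun {x} hx e he => by rw [mul_neg, neg_smul]; exact (hx e he).neg_right }
  have hS : S = ⊤ := by
    rw [eq_top_iff, ← hγ, Subring.closure_le, Set.singleton_subset_iff]
    intro e he
    have := hconjT e 0 (by rw [zero_smul, add_zero]; exact he)
    rwa [zero_smul, add_zero] at this
  refine eq_top_of_low hn H hu (fun t => ?_) c hc0 hseed
  have ht : t / e₀ ∈ S := by rw [hS]; trivial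
  have := ht e₀ hPe
  rwa [mul_div_cancel₀ t he₀] at this

/-- In a finite field of more than four elements the cube of a generator of the units generates the field. -/
theorem closure_cube_generator [Fintype F] (g : Fˣ) (hg : ∀ x : Fˣ, x ∈ Subgroup.zpowers g)
    (h2 : Fintype.card F ≠ 2) (h4 : Fintype.card F ≠ 4) :
    Subring.closure ({(g : F) ^ 3} : Set F) = ⊤ := by
  classical
  set S := Subring.closure ({(g : F) ^ 3} : Set F) with hS
  have hord : orderOf g = Fintype.card F - 1 := by
    rw [orderOf_eq_card_of_forall_mem_zpowers hg, Nat.card_eq_fintype_card, Fintype.card_units]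
  haveI : Fintype S := Fintype.ofFinite S
  haveI hfield : IsField S := Finite.isDomain_to_isField S
  letI : Field S := hfield.toField
  letI : Algebra S F := S.subtype.toAlgebra
  obtain ⟨e, he⟩ : ∃ e, Fintype.card F = Fintype.card S ^ e :=
    ⟨Module.finrank S F, Module.card_eq_pow_finrank⟩
  rcases Nat.lt_or_ge e 2 with he1 | he1
  · rw [eq_top_iff]
    intro x _
    have hle : Fintype.card F ≤ Fintype.card S := by
      rw [he]
      have := Fintype.one_lt_card (α := F)
      interval_cases e <;> simp_all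
    have hbij : Function.Bijective (Subtype.val : S → F) :=
      (Fintype.bijective_iff_injective_and_card _).2
        ⟨Subtype.val_injective, le_antisymm (Fintype.card_le_of_injective _ Subtype.val_injective) hle⟩
    obtain ⟨y, rfl⟩ := hbij.2 x
    exact y.2
  · exfalso
    have hcs : 1 < Fintype.card S := Fintype.one_lt_card
    have hsq : Fintype.card S ^ 2 ≤ Fintype.card F := by
      rw [he]; exact Nat.pow_le_pow_right (by omega) he1
    have hmem : (g : F) ^ 3 ∈ S := Subring.subset_closure rfl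
    have h1 : ((⟨(g : F) ^ 3, hmem⟩ : S)) ^ (Fintype.card S - 1) = 1 := by
      refine FiniteField.pow_card_sub_one_eq_one _ ?_
      intro h
      exact pow_ne_zero 3 g.ne_zero (congrArg Subtype.val h)
    have h3 : g ^ (3 * (Fintype.card S - 1)) = 1 := by
      apply Units.ext
      have := congrArg Subtype.val h1
      simpa [pow_mul] using this
    have h5 := Nat.le_of_dvd (by omega) (orderOf_dvd_of_pow_eq_one h3)
    rw [hord] at h5
    have h6 : Fintype.card S ≤ 2 := by
      have h9 : Fintype.card F + 2 ≤ 3 * Fintype.card S := by omega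
      nlinarith
    have h7 : Fintype.card S = 2 := by omega
    rw [h7] at h5 hsq
    rw [h7] at he
    rcases Nat.lt_or_ge e 3 with h8 | h8
    · interval_cases e; exact h4 (by rw [he]; norm_num)
    · have : 2 ^ 3 ≤ 2 ^ e := Nat.pow_le_pow_right (by norm_num) h8
      omega

end Cfsg.Agent.SLGen
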