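/-
Two conjugate regular unipotent generators of `SL_n(2)`, `n ≥ 4`.
-/
import Cfsg.Agent.Lib.SLGen.TwoGen

set_option autoImplicit false

namespace Cfsg.Agent.SLGen

open Matrix

variable {F : Type*} [Field F]

/-- Regularity is invariant under conjugation. -/
theorem regular_conj {ι : Type*} [Fintype ι] [DecidableEq ι] {k : ℕ} (g a : SpecialLinearGroup ι F)
    (h : IsNilpotent ((a : Matrix ι ι F) - 1) ∧ ((a : Matrix ι ι F) - 1) ^ k ≠ 0) :
    IsNilpotent (((g * a * g⁻¹ : SpecialLinearGroup ι F) : Matrix ι ι F) - 1) ∧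
      (((g * a * g⁻¹ : SpecialLinearGroup ι F) : Matrix ι ι F) - 1) ^ k ≠ 0 := by
  set G : Matrix ι ι F := g.val with hG
  set Gi : Matrix ι ι F := (g⁻¹ : SpecialLinearGroup ι F).val with hGi
  have h1 : G * Gi = 1 := by rw [hG, hGi, ← cmul, mul_inv_cancel, cone]
  have h2 : Gi * G = 1 := by rw [hG, hGi, ← cmul, inv_mul_cancel, cone]
  have key : ∀ t : ℕ, (((g * a * g⁻¹ : SpecialLinearGroup ι F) : Matrix ι ι F) - 1) ^ t =
      G * ((a : Matrix ι ι F) - 1) ^ t * Gi := by
    intro t
    induction t with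
    | zero => rw [pow_zero, pow_zero, Matrix.mul_one, h1]
    | succ t ih =>
      have e : ((g * a * g⁻¹ : SpecialLinearGroup ι F) : Matrix ι ι F) - 1 =
          G * ((a : Matrix ι ι F) - 1) * Gi := by
        rw [cmul, cmul, mul_sub, sub_mul, Matrix.mul_one, h1]
      rw [pow_succ, ih, e, pow_succ,
        show G * ((a : Matrix ι ι F) - 1) ^ t * Gi * (G * ((a : Matrix ι ι F) - 1) * Gi) =
          G * ((a : Matrix ι ι F) - 1) ^ t * (Gi * G) * ((a : Matrix ι ι F) - 1) * Gi by
            simp only [Matrix.mul_assoc],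
        h2, Matrix.mul_one, Matrix.mul_assoc G]
  obtain ⟨⟨m, hm⟩, hk⟩ := h
  refine ⟨⟨m, by rw [key, hm, Matrix.mul_zero, Matrix.zero_mul]⟩, fun hz => hk ?_⟩
  have := congrArg (fun z => Gi * z * G) ((key k).symm.trans hz)
  simpa [← Matrix.mul_assoc, h2, Matrix.mul_assoc _ Gi G] using this

theorem mul_fin_four {R : Type*} [CommRing R] (a b c d e f g h i j k l m n o p a' b' c' d' e' f' g' h' i' j' k' l' m' n' o' p' : R) :
    !![a, b, c, d; e, f, g, h; i, j, k, l; m, n, o, p] * !![a', b', c', d'; e', f', g', h'; i', j', k', l'; m', n', o', p'] =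
      !![a * a' + b * e' + c * i' + d * m', a * b' + b * f' + c * j' + d * n', a * c' + b * g' + c * k' + d * o', a * d' + b * h' + c * l' + d * p';
        e * a' + f * e' + g * i' + h * m', e * b' + f * f' + g * j' + h * n', e * c' + f * g' + g * k' + h * o', e * d' + f * h' + g * l' + h * p';
        i * a' + j * e' + k * i' + l * m', i * b' + j * f' + k * j' + l * n', i * c' + j * g' + k * k' + l * o', i * d' + j * h' + k * l' + l * p';
        m * a' + n * e' + o * i' + p * m', m * b' + n * f' + o * j' + p * n', m * c' + n * g' + o * k' + p * o', m * d' + n * h' + o * l' + p * p'] := by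
  ext r s
  fin_cases r <;> fin_cases s <;> simp [Matrix.mul_apply, Fin.sum_univ_four]

set_option maxHeartbeats 1000000 in
/-- `SL_4(2)`. -/
theorem binary_four (hall : ∀ x : F, x = 0 ∨ x = 1) (h2 : (2 : F) = 0) :
    ∃ g : SpecialLinearGroup (Fin 4) F,
      Subgroup.closure ({lowS 4 F, g * lowS 4 F * g⁻¹} : Set (SpecialLinearGroup (Fin 4) F)) = ⊤ := by
  let g : SpecialLinearGroup (Fin 4) F :=
    ⟨!![0, 0, 1, 0; 1, 0, 0, 0; 0, 0, 0, 1; 1, 1, 0, 0], by
      simp [Matrix.det_succ_row_zero, Fin.sum_univ_succ, Fin.succAbove] <;> grind⟩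
  refine ⟨g, ?_⟩
  have h11 : (1 : F) + 1 = 0 := by rw [one_add_one_eq_two]; exact h2
  have hL : (lowS 4 F : Matrix (Fin 4) (Fin 4) F) = !![1, 0, 0, 0; 1, 1, 0, 0; 0, 1, 1, 0; 0, 0, 1, 1] := by
    ext i j; fin_cases i <;> fin_cases j <;> simp [coe_lowS, low_apply]
  set u := lowS 4 F with hu
  set v := g * lowS 4 F * g⁻¹ with hv
  have cv : (v : Matrix (Fin 4) (Fin 4) F) = !![1, 1, 0, 1; 0, 1, 0, 0; 1, 0, 1, 0; 0, 1, 0, 1] := by
    have hvg : (v : Matrix (Fin 4) (Fin 4) F) * g.val = g.val * (lowS 4 F).val := by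
      rw [← cmul, ← cmul, hv, inv_mul_cancel_right]
    have hgi : g.val * ((g⁻¹ : SpecialLinearGroup (Fin 4) F) : Matrix (Fin 4) (Fin 4) F) = 1 := by
      rw [← cmul, mul_inv_cancel, cone]
    have hB : !![1, 1, 0, 1; 0, 1, 0, 0; 1, 0, 1, 0; 0, 1, 0, 1] * g.val = g.val * (lowS 4 F).val := by
      show !![1, 1, 0, 1; 0, 1, 0, 0; 1, 0, 1, 0; 0, 1, 0, 1] * !![0, 0, 1, 0; 1, 0, 0, 0; 0, 0, 0, 1; 1, 1, 0, 0]
        = !![0, 0, 1, 0; 1, 0, 0, 0; 0, 0, 0, 1; 1, 1, 0, 0] * (lowS 4 F).val
      rw [hL]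
      simp only [mul_fin_four, mul_zero, zero_mul, mul_one, one_mul, add_zero, zero_add, h11] <;>
        (ext i j; fin_cases i <;> fin_cases j <;> simp)
    have := congrArg (· * ((g⁻¹ : SpecialLinearGroup (Fin 4) F) : Matrix (Fin 4) (Fin 4) F)) (hvg.trans hB.symm)
    simpa only [Matrix.mul_assoc, hgi, Matrix.mul_one] using this
  let uI : SpecialLinearGroup (Fin 4) F :=
    ⟨!![1, 0, 0, 0; 1, 1, 0, 0; 1, 1, 1, 0; 1, 1, 1, 1], by
      simp [Matrix.det_succ_row_zero, Fin.sum_univ_succ, Fin.succAbove]⟩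
  let vI : SpecialLinearGroup (Fin 4) F :=
    ⟨!![1, 0, 0, 1; 0, 1, 0, 0; 1, 0, 1, 1; 0, 1, 0, 1], by
      simp [Matrix.det_succ_row_zero, Fin.sum_univ_succ, Fin.succAbove] <;> grind⟩
  have cu' : (uI : Matrix (Fin 4) (Fin 4) F) = !![1, 0, 0, 0; 1, 1, 0, 0; 1, 1, 1, 0; 1, 1, 1, 1] := rfl
  have cv' : (vI : Matrix (Fin 4) (Fin 4) F) = !![1, 0, 0, 1; 0, 1, 0, 0; 1, 0, 1, 1; 0, 1, 0, 1] := rfl
  have hui : u⁻¹ = uI := by
    refine inv_eq_of_mul_eq_one_right (coe_ext ?_)
    rw [cmul, cone, hL, cu']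
    simp only [mul_fin_four, mul_zero, zero_mul, mul_one, one_mul, add_zero, zero_add, h11] <;>
        (ext i j; fin_cases i <;> fin_cases j <;> simp)
  have hvi : v⁻¹ = vI := by
    refine inv_eq_of_mul_eq_one_right (coe_ext ?_)
    rw [cmul, cone, cv, cv']
    simp only [mul_fin_four, mul_zero, zero_mul, mul_one, one_mul, add_zero, zero_add, h11] <;>
        (ext i j; fin_cases i <;> fin_cases j <;> simp)
  set H := Subgroup.closure ({u, v} : Set (SpecialLinearGroup (Fin 4) F)) with hH
  have mu : u ∈ H := Subgroup.subset_closure (by simp)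
  have mv : v ∈ H := Subgroup.subset_closure (by simp)
  have mu' : u⁻¹ ∈ H := H.inv_mem mu
  have mv' : v⁻¹ ∈ H := H.inv_mem mv
  have hd : ∀ (k : ℕ), k = 2 ∨ k = 3 → ((1 : F) • E 4 F k) ⬝ᵥ E 4 F 0 = 0 := by
    intro k hk
    rw [smul_dotProduct, E_dot_E (by omega), smul_zero]
  have w1 : Has H (E 4 F 0) ((1 : F) • E 4 F 2) := by
    refine has_of_mem (g := u * v⁻¹ * u * v * u * v * u⁻¹) (by apply_rules [H.mul_mem]) (hd _ (Or.inl rfl)) ?_
    rw [hui, hvi]
    simp only [cmul, hL, cv, cu', cv', mul_fin_four, mul_zero, zero_mul, mul_one, one_mul, add_zero, zero_add, h11]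
    ext i j; fin_cases i <;> fin_cases j <;>
      simp [E_apply, vecMulVec_apply] <;> grind
  have w2 : Has H (E 4 F 0) ((1 : F) • E 4 F 3) := by
    refine has_of_mem (g := u * u * v⁻¹) (by apply_rules [H.mul_mem]) (hd _ (Or.inr rfl)) ?_
    rw [hvi]
    simp only [cmul, hL, cv', mul_fin_four, mul_zero, zero_mul, mul_one, one_mul, add_zero, zero_add, h11]
    ext i j; fin_cases i <;> fin_cases j <;>
      simp [E_apply, vecMulVec_apply] <;> grind
  refine eq_top_of_low (by norm_num) H mu (fun t => ?_) 1 one_ne_zero w2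
  rcases hall t with rfl | rfl
  · rw [zero_smul]; exact has_zero_right
  · exact w1

/-- The chain `∑ E_i ⊗ E_(i+1)` over `1 ≤ i`, with ones on the diagonal. -/
def tail (n : ℕ) (F : Type*) [Field F] : Matrix (Fin n) (Fin n) F :=
  Matrix.of fun i j => if i = j then 1 else if 1 ≤ i.val ∧ i.val + 1 = j.val then 1 else 0

theorem det_tail (n : ℕ) : (tail n F).det = 1 := by
  rw [Matrix.det_of_upperTriangular]
  · simp [tail]
  · intro i j hij
    have h : j < i := hij
    have h' : j.val < i.val := h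
    simp only [tail, Matrix.of_apply]
    rw [if_neg h.ne', if_neg (by omega)]

theorem tail_mulVec_E {n j : ℕ} (hj : j < n) :
    tail n F *ᵥ E n F j = E n F j + if 2 ≤ j then E n F (j - 1) else 0 := by
  funext i
  rw [mulVec_E _ hj, Pi.add_apply, E_apply]
  simp only [tail, Matrix.of_apply, Fin.ext_iff]
  split_ifs <;> simp [E_apply] <;> omega

theorem E_vecMul_tail {n j : ℕ} (hj : j < n) :
    E n F j ᵥ* tail n F = E n F j + if 1 ≤ j then E n F (j + 1) else 0 := by
  funext i
  rw [vecMul_E _ hj, Pi.add_apply, E_apply]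
  simp only [tail, Matrix.of_apply, Fin.ext_iff]
  split_ifs <;> simp [E_apply] <;> omega

/-- `SL_n(2)` for `n ≥ 5`. -/
theorem binary_large (hall : ∀ x : F, x = 0 ∨ x = 1) (h2 : (2 : F) = 0) {n : ℕ} (hn : 5 ≤ n) :
    ∃ u g : SpecialLinearGroup (Fin n) F,
      (IsNilpotent ((u : Matrix (Fin n) (Fin n) F) - 1) ∧ ((u : Matrix (Fin n) (Fin n) F) - 1) ^ (n - 1) ≠ 0) ∧
      Subgroup.closure ({u, g * u * g⁻¹} : Set (SpecialLinearGroup (Fin n) F)) = ⊤ := by
  classical
  have hn0 : 0 < n := by omega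
  have hadd : ∀ x : Fin n → F, x + x = 0 := by
    intro x; funext i; rw [Pi.add_apply, Pi.zero_apply, ← two_mul, h2, zero_mul]
  have hsub : ∀ x y : Fin n → F, x - y = x + y := by
    intro x y; rw [sub_eq_iff_eq_add, add_assoc, hadd, add_zero]
  let W : SpecialLinearGroup (Fin n) F := ⟨tail n F, det_tail n⟩
  let A : SpecialLinearGroup (Fin n) F := tv (E n F 0) (E n F 1) (E_dot_E (by omega))
  let B : SpecialLinearGroup (Fin n) F := tv (E n F (n - 1)) (E n F 0) (E_dot_E (by omega))
  let J : SpecialLinearGroup (Fin n) F := ⟨bidiag n F, det_bidiag⟩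
  let σ : Equiv.Perm (Fin n) := (finRotate n).symm
  have hσ : (Equiv.Perm.permMatrix F σ).det = 1 := by
    rw [Matrix.det_permutation]
    rcases Int.units_eq_one_or (Equiv.Perm.sign σ) with h | h <;> rw [h]
    · simp
    · simp only [Units.val_neg, Units.val_one, Int.cast_neg, Int.cast_one]
      linear_combination -h2
  let P : SpecialLinearGroup (Fin n) F := ⟨Equiv.Perm.permMatrix F σ, hσ⟩
  set u := A * W with hu
  set v := B * W with hv
  have cu : (u : Matrix (Fin n) (Fin n) F) = tail n F + vecMulVec (E n F 0) (E n F 1 + E n F 2) := by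
    rw [hu, cmul, coe_tv, add_mul, one_mul, vecMulVec_mul]
    show tail n F + _ = _
    rw [show (W : Matrix (Fin n) (Fin n) F) = tail n F from rfl, E_vecMul_tail (by omega), if_pos le_rfl]
  have cv : (v : Matrix (Fin n) (Fin n) F) = tail n F + vecMulVec (E n F (n - 1)) (E n F 0) := by
    rw [hv, cmul, coe_tv, add_mul, one_mul, vecMulVec_mul]
    show tail n F + _ = _
    rw [show (W : Matrix (Fin n) (Fin n) F) = tail n F from rfl, E_vecMul_tail (by omega), if_neg (by omega),
      add_zero]
  have hWA : W * A = J := by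
    apply coe_ext
    rw [cmul, coe_tv, mul_add, mul_one, mul_vecMulVec]
    show tail n F + vecMulVec (tail n F *ᵥ E n F 0) (E n F 1) = bidiag n F
    rw [tail_mulVec_E hn0, if_neg (by omega), add_zero]
    ext i j
    simp only [Matrix.add_apply, tail, Matrix.of_apply, vecMulVec_apply, E_apply, bidiag_apply, Fin.ext_iff]
    split_ifs <;> first | omega | simp
  have huJ : u = W⁻¹ * J * W := by rw [hu, ← hWA]; group
  have hPJ : v * P = P * J := by
    apply coe_ext
    rw [cmul v P, cmul P J, cv]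
    show _ * σ.permMatrix F = σ.permMatrix F * bidiag n F
    ext i j
    rw [Matrix.mul_apply, Matrix.mul_apply]
    simp only [Equiv.Perm.permMatrix, Equiv.toPEquiv_apply, PEquiv.toMatrix_apply, Option.mem_def,
      Option.some.injEq, mul_ite, mul_one, mul_zero, ite_mul, one_mul, zero_mul]
    rw [Finset.sum_eq_single (σ.symm j) (fun b _ hb => if_neg (fun e => hb (by rw [← e, Equiv.symm_apply_apply])))
      (by simp), if_pos (Equiv.apply_symm_apply σ j), Finset.sum_ite_eq, if_pos (Finset.mem_univ _)]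
    obtain ⟨N, rfl⟩ : ∃ N, n = N + 1 := ⟨n - 1, by omega⟩
    obtain ⟨k, rfl⟩ : ∃ k, σ k = j := ⟨σ.symm j, Equiv.apply_symm_apply _ _⟩
    rw [Equiv.symm_apply_apply]
    have hσk : ∀ l : Fin (N + 1), (σ l).val = if l.val = 0 then N else l.val - 1 := by
      intro l
      have h : l.val = if (σ l).val = N then 0 else (σ l).val + 1 := by
        conv_lhs => rw [← Equiv.apply_symm_apply (finRotate (N + 1)) l]
        simp only [σ, coe_finRotate, Fin.ext_iff, Fin.val_last]
      have := (σ l).isLt
      split_ifs at h ⊢ <;> omega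
    have hi := i.isLt
    have hk := k.isLt
    simp only [Matrix.add_apply, tail, Matrix.of_apply, vecMulVec_apply, E_apply, bidiag_apply, Fin.ext_iff, hσk]
    split_ifs <;> first | omega | simp
  refine ⟨u, P * W, ?_, ?_⟩
  · have := regular_conj (k := n - 1) W⁻¹ J (bidiag_regular hn0)
    rwa [inv_inv, ← huJ] at this
  have hg : P * W * u * (P * W)⁻¹ = v := by
    rw [huJ, show P * W * (W⁻¹ * J * W) * (P * W)⁻¹ = P * J * P⁻¹ by group, ← hPJ, mul_inv_cancel_right]
  rw [hg]
  set H := Subgroup.closure ({u, v} : Set (SpecialLinearGroup (Fin n) F)) with hH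
  have mu : u ∈ H := Subgroup.subset_closure (by simp)
  have mv : v ∈ H := Subgroup.subset_closure (by simp)
  -- images of the basis
  have uE : ∀ j, 3 ≤ j → j < n → (u : Matrix (Fin n) (Fin n) F) *ᵥ E n F j = E n F j + E n F (j - 1) := by
    intro j h hj
    rw [cu, add_mulVec, tail_mulVec_E hj, if_pos (by omega), vecMulVec_mulVec, op_smul_eq_smul, add_dotProduct,
      E_dot_E (by omega), E_dot_E (by omega), add_zero, zero_smul, add_zero]
  have uE2 : (u : Matrix (Fin n) (Fin n) F) *ᵥ E n F 2 = E n F 2 + E n F 1 + E n F 0 := by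
    rw [cu, add_mulVec, tail_mulVec_E (by omega), if_pos le_rfl, vecMulVec_mulVec, op_smul_eq_smul, add_dotProduct,
      E_dot_E (by omega), zero_add, dot_E _ (by omega : 2 < n), E_apply, if_pos rfl, one_smul]
  have vE : ∀ j, 2 ≤ j → j < n → (v : Matrix (Fin n) (Fin n) F) *ᵥ E n F j = E n F j + E n F (j - 1) := by
    intro j h hj
    rw [cv, add_mulVec, tail_mulVec_E hj, if_pos h, vecMulVec_mulVec, op_smul_eq_smul, E_dot_E (by omega),
      zero_smul, add_zero]
  have Ev : ∀ j, 1 ≤ j → j + 1 < n → E n F j ᵥ* (v : Matrix (Fin n) (Fin n) F) = E n F j + E n F (j + 1) := by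
    intro j h hj
    rw [cv, vecMul_add, E_vecMul_tail (by omega), if_pos h, vecMul_vecMulVec, E_dot_E (by omega), zero_smul,
      add_zero]
  -- `(u v⁻¹)²`
  have hBi : B⁻¹ = B := by
    refine inv_eq_of_mul_eq_one_right (coe_ext ?_)
    rw [cmul, cone, coe_tv, mul_add, add_mul, add_mul, one_mul, mul_one, one_mul, vecMulVec_mul_vecMulVec,
      E_dot_E (by omega), zero_smul, vecMulVec_zero, add_zero, add_assoc, ← add_vecMulVec, hadd,
      zero_vecMulVec, add_zero]
  have hquo : u * v⁻¹ = A * B := by rw [hu, hv, _root_.mul_inv_rev, hBi]; group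
  have cAB : ((u * v⁻¹ : SpecialLinearGroup (Fin n) F) : Matrix (Fin n) (Fin n) F) =
      1 + (vecMulVec (E n F 0) (E n F 1) + vecMulVec (E n F (n - 1)) (E n F 0)) := by
    rw [hquo, cmul, coe_tv, coe_tv, mul_add, add_mul, add_mul, one_mul, mul_one, one_mul,
      vecMulVec_mul_vecMulVec, E_dot_E (by omega), zero_smul, vecMulVec_zero, add_zero]
    abel
  have hs : Has H (E n F (n - 1)) (E n F 1) := by
    refine has_of_mem (H.mul_mem (H.mul_mem mu (H.inv_mem mv)) (H.mul_mem mu (H.inv_mem mv)))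
      (E_dot_E (by omega)) ?_
    rw [cmul, cAB]
    set N := vecMulVec (E n F 0) (E n F 1) + vecMulVec (E n F (n - 1)) (E n F 0) with hN
    have hNN : N + N = 0 := by
      ext i j
      rw [Matrix.add_apply, Matrix.zero_apply, ← two_mul, h2, zero_mul]
    have hN2 : N * N = vecMulVec (E n F (n - 1)) (E n F 1) := by
      rw [hN, mul_add, add_mul, add_mul, vecMulVec_mul_vecMulVec, vecMulVec_mul_vecMulVec,
        vecMulVec_mul_vecMulVec, vecMulVec_mul_vecMulVec, E_dot_E (by omega : 1 ≠ 0),
        E_dot_E (by omega : (1 : ℕ) ≠ n - 1), E_dot_E (by omega : (0 : ℕ) ≠ n - 1)]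
      rw [dot_E (E n F 0) hn0, E_apply, if_pos rfl]
      simp only [one_smul, zero_smul, vecMulVec_zero, add_zero, zero_add]
    calc (1 + N) * (1 + N) = 1 + (N + N) + N * N := by noncomm_ring
      _ = _ := by rw [hNN, hN2, add_zero]
  -- the vector `v⁻¹ E (n-1)`
  set z : Fin n → F := fun i => if i.val = 0 then 0 else 1 with hz
  have tz : tail n F *ᵥ z = E n F (n - 1) := by
    funext i
    show tail n F i ⬝ᵥ z = _
    rw [show tail n F i = E n F i.val ᵥ* tail n F by funext l; rw [vecMul_E _ i.isLt], E_vecMul_tail i.isLt,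
      add_dotProduct, E_dot _ i.isLt, E_apply]
    have hi := i.isLt
    split_ifs with h1 h3 h3
    · rw [show E n F (i.val + 1) = 0 by funext l; simp [E_apply]; omega,
        zero_dotProduct, add_zero]
      simp [hz]; omega
    · rw [E_dot _ (by omega : i.val + 1 < n)]
      simp only [hz]
      rw [if_neg (by omega), if_neg (by omega)]
      linear_combination h2
    · omega
    · rw [zero_dotProduct, add_zero]; simp [hz]; omega
  have E0z : E n F 0 ⬝ᵥ z = 0 := by rw [E_dot _ hn0]; simp [hz]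
  have hvz : (v : Matrix (Fin n) (Fin n) F) *ᵥ z = E n F (n - 1) := by
    rw [cv, add_mulVec, tz, vecMulVec_mulVec, op_smul_eq_smul, E0z, zero_smul, add_zero]
  have huz : (u : Matrix (Fin n) (Fin n) F) *ᵥ z = E n F (n - 1) := by
    rw [cu, add_mulVec, tz, vecMulVec_mulVec, op_smul_eq_smul, add_dotProduct, E_dot _ (by omega : 1 < n),
      E_dot _ (by omega : 2 < n)]
    simp only [hz]
    rw [if_neg (by omega), if_neg (by omega), one_add_one_eq_two, h2, zero_smul, add_zero]
  have E1z : E n F 1 ⬝ᵥ z = 1 := by rw [E_dot _ (by omega : 1 < n)]; simp [hz]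
  have inv_move : ∀ {g : SpecialLinearGroup (Fin n) F} {x y : Fin n → F}, g.val *ᵥ x = y →
      ((g⁻¹ : SpecialLinearGroup (Fin n) F) : Matrix (Fin n) (Fin n) F) *ᵥ y = x := by
    intro g x y h
    rw [← h, mulVec_mulVec, ← cmul, inv_mul_cancel, cone, one_mulVec]
  -- all axes at the last vector
  have hL : ∀ k, 1 ≤ k → k + 1 < n → Has H (E n F (n - 1)) (E n F k) := by
    intro k hk
    induction k, hk using Nat.le_induction with
    | base => exact fun _ => hs
    | succ k hk ih =>
      intro h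
      have h2' := (ih (by omega)).conj (H.inv_mem mv)
      rw [inv_inv, inv_move hvz, Ev k hk (by omega)] at h2'
      have h3 := h2'.comm_right hs (by rw [add_dotProduct, E_dot_E (by omega), E_dot_E (by omega), add_zero])
      rw [E1z, one_smul] at h3
      have h4 := h3.sub_right (ih (by omega))
      rwa [add_sub_cancel_left] at h4
  -- all centres at the first axis
  have hC : ∀ k, k + 3 ≤ n → Has H (E n F (n - 1 - k)) (E n F 1) := by
    intro k
    induction k with
    | zero => exact fun _ => hs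
    | succ k ih =>
      intro h
      have h2' := (ih (by omega)).conj mv
      rw [vE _ (by omega) (by omega)] at h2'
      have h3 := hs.comm_left h2' (by rw [dotProduct_add, E_dot_E (by omega), E_dot_E (by omega), add_zero])
      rw [← dotProduct_mulVec, inv_move hvz, E1z, one_smul] at h3
      have h4 := h3.sub_left (ih (by omega))
      rwa [add_sub_cancel_left, show n - 1 - k - 1 = n - 1 - (k + 1) by omega] at h4
  have hE2 : Has H (E n F 2) (E n F 1) := by
    have := hC (n - 3) (by omega)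
    rwa [show n - 1 - (n - 3) = 2 by omega] at this
  -- the first vector
  have h03 : Has H (E n F 0) (E n F 3) := by
    have h2' := hE2.conj mu
    rw [uE2] at h2'
    have h3 := (hL 3 (by omega) (by omega)).comm_left h2' (by
      rw [dotProduct_add, dotProduct_add, E_dot_E (by omega), E_dot_E (by omega), E_dot_E (by omega)]; simp)
    rw [← dotProduct_mulVec, inv_move huz, E1z, one_smul] at h3
    have h4 := hE2.conj mv
    rw [vE 2 le_rfl (by omega)] at h4
    have h5 := (hL 3 (by omega) (by omega)).comm_left h4 (by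
      rw [dotProduct_add, E_dot_E (by omega), E_dot_E (by omega), add_zero])
    rw [← dotProduct_mulVec, inv_move hvz, E1z, one_smul] at h5
    have h6 := h3.sub_left h5
    rwa [add_sub_cancel_left] at h6
  have h31 : Has H (E n F 3) (E n F 1) := by
    have := hC (n - 4) (by omega)
    rwa [show n - 1 - (n - 4) = 3 by omega] at this
  have h01 : Has H (E n F 0) (E n F 1) := by
    have := h31.comm_right h03 (E_dot_E (by omega))
    rwa [dot_E _ (by omega : 3 < n), E_apply, if_pos rfl, one_smul] at this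
  -- the first axis is full
  have ha1 : E n F 1 ∈ axes H := by
    intro y hy
    rw [E_dot _ (by omega : 1 < n)] at hy
    rw [sum_E y]
    refine Finset.sum_induction _ (fun x => Has H x (E n F 1)) (fun p q hp hq => hp.add_left hq)
      has_zero_left ?_
    intro i _
    rcases hall (y i) with h | h
    · rw [h, zero_smul]; exact has_zero_left
    rw [h, one_smul]
    have hi := i.isLt
    rcases Nat.lt_or_ge i.val 2 with h' | h'
    · rcases Nat.eq_zero_or_pos i.val with h0 | h0
      · rw [h0]; exact h01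
      · have : y i = 0 := by rw [← hy]; congr 1; exact Fin.ext (by show i.val = 1; omega)
        rw [this] at h
        exact absurd h zero_ne_one
    · have := hC (n - 1 - i.val) (by omega)
      rwa [show n - 1 - (n - 1 - i.val) = i.val by omega] at this
  have hax : ∀ k, 1 ≤ k → k < n → E n F k ∈ axes H := by
    intro k hk
    induction k, hk using Nat.le_induction with
    | base => exact fun _ => ha1
    | succ k hk ih =>
      intro h
      have h1 := axes_vecMul mv (ih (by omega))
      rw [Ev k hk h] at h1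
      have h2' := (axes H).sub_mem h1 (ih (by omega))
      rwa [add_sub_cancel_left] at h2'
  have hax0 : E n F 0 ∈ axes H := by
    have h1 := axes_vecMul mv (hax (n - 1) (by omega) (by omega))
    rw [cv, vecMul_add, E_vecMul_tail (by omega), if_pos (by omega), show n - 1 + 1 = n by omega,
      show E n F n = 0 by funext l; simp [E_apply, l.isLt.ne], add_zero, vecMul_vecMulVec,
      dot_E _ (by omega : n - 1 < n), E_apply, if_pos rfl, one_smul] at h1
    have h2' := (axes H).sub_mem h1 (hax (n - 1) (by omega) (by omega))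
    rwa [add_sub_cancel_left] at h2'
  refine eq_top_of_axes fun i => ?_
  rw [← E_eq_single]
  rcases Nat.eq_zero_or_pos i.val with h | h
  · rw [h]; exact hax0
  · exact hax _ h i.isLt

/-- Two conjugate regular unipotents generate `SL_n(2)`. -/
theorem two_gen_binary [Fintype F] (hq : Fintype.card F = 2) {n : ℕ} (hn : 4 ≤ n) :
    ∃ u g : SpecialLinearGroup (Fin n) F,
      (IsNilpotent ((u : Matrix (Fin n) (Fin n) F) - 1) ∧ ((u : Matrix (Fin n) (Fin n) F) - 1) ^ (n - 1) ≠ 0) ∧
      Subgroup.closure ({u, g * u * g⁻¹} : Set (SpecialLinearGroup (Fin n) F)) = ⊤ := by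
  classical
  have h2 : (2 : F) = 0 := by
    have := FiniteField.cast_card_eq_zero F
    rw [hq] at this; exact_mod_cast this
  have hall : ∀ x : F, x = 0 ∨ x = 1 := by
    intro x
    rcases eq_or_ne x 0 with h | h
    · exact Or.inl h
    · right
      have := FiniteField.pow_card_sub_one_eq_one x h
      rwa [hq, Nat.add_one_sub_one, pow_one] at this
  rcases Nat.eq_or_lt_of_le hn with h | h
  · subst h
    obtain ⟨g, hg⟩ := binary_four hall h2
    exact ⟨_, g, low_regular (by norm_num), hg⟩
  · exact binary_large hall h2 h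

end Cfsg.Agent.SLGen
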