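/-
Two conjugate regular unipotent generators of `SL_n(p)`, `n ≥ 4`, `p` an odd prime.
-/
import Cfsg.Agent.Lib.SLGen.TwoGen

set_option autoImplicit false

namespace Cfsg.Agent.SLGen

open Matrix

variable {F : Type*} [Field F]

theorem prod_prod_range (f : ℕ → F) : ∀ N : ℕ,
    ∏ k ∈ Finset.range N, ∏ m ∈ Finset.range k, f m = ∏ m ∈ Finset.range N, f m ^ (N - 1 - m) := by
  intro N
  induction N with
  | zero => simp
  | succ N ih =>
    rw [Finset.prod_range_succ, ih, Finset.prod_range_succ, Nat.add_sub_cancel, Nat.sub_self, pow_zero,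
      mul_one, ← Finset.prod_mul_distrib]
    refine Finset.prod_congr rfl fun m hm => ?_
    have := Finset.mem_range.1 hm
    rw [show N - m = N - 1 - m + 1 by omega, pow_succ]

theorem det_cyc_eq {n : ℕ} (d : ℕ → F) : (cyc n d).det = (∏ i ∈ Finset.range n, d i ^ i)⁻¹ := by
  rw [det_cyc, Fin.prod_univ_eq_prod_range (fun j => ∏ m ∈ Finset.range (n - 1 - j), (d (n - 1 - m))⁻¹) n,
    Finset.prod_range_reflect (fun j => ∏ m ∈ Finset.range j, (d (n - 1 - m))⁻¹) n, prod_prod_range,
    ← Finset.prod_range_reflect (fun i => d i ^ i) n, ← Finset.prod_inv_distrib]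
  refine Finset.prod_congr rfl fun m _ => ?_
  rw [inv_pow]

theorem natCast_surjective_of_card_prime [Fintype F] (hp : (Fintype.card F).Prime) (x : F) :
    ∃ k : ℕ, (k : F) = x := by
  haveI := Fact.mk hp
  haveI : CharP F (Fintype.card F) := charP_of_card_eq_prime rfl
  have hb : Function.Bijective (fun i : Fin (Fintype.card F) => (i.val : F)) := by
    refine (Fintype.bijective_iff_injective_and_card _).2 ⟨fun i j h => Fin.ext ?_, by simp⟩
    have h' := (CharP.natCast_eq_natCast F (Fintype.card F)).1 h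
    rwa [Nat.ModEq, Nat.mod_eq_of_lt i.isLt, Nat.mod_eq_of_lt j.isLt] at h'
  obtain ⟨i, hi⟩ := hb.2 x
  exact ⟨i.val, hi⟩

theorem closure_eq_top_of_card_prime [Fintype F] (hp : (Fintype.card F).Prime) (s : Set F) :
    Subring.closure s = ⊤ := by
  rw [eq_top_iff]
  intro x _
  obtain ⟨k, rfl⟩ := natCast_surjective_of_card_prime hp x
  exact natCast_mem _ k

/-- The general case: a multiplier pattern of product one and trivial weighted product. -/
theorem exists_pattern [Fintype F] {n : ℕ} (hn : 4 ≤ n) (hp : (Fintype.card F).Prime)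
    (h2 : Fintype.card F ≠ 2) (h3 : Fintype.card F = 3 → Odd n) :
    ∃ d : ℕ → F, ∃ _ : ∀ i < n, d i ≠ 0, (∏ i : Fin n, d i.val = 1) ∧ d (n - 1) = d 0 ∧ d 0 ≠ 1 ∧
      (∀ i, 1 ≤ i → i + 1 < n → d i ≠ d 0) ∧ (∏ i ∈ Finset.range n, d i ^ i = 1) := by
  classical
  obtain ⟨g, hg⟩ := IsCyclic.exists_generator (α := Fˣ)
  have hord : orderOf g = Fintype.card F - 1 := by
    rw [orderOf_eq_card_of_forall_mem_zpowers hg, Nat.card_eq_fintype_card, Fintype.card_units]
  have hcard := hp.two_le
  obtain ⟨q', hq'⟩ : ∃ q', Fintype.card F = 2 * q' + 1 := hp.odd_of_ne_two h2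
  have hne : ∀ z : ℤ, g ^ z = 1 → (2 * q' : ℤ) ∣ z := by
    intro z hz
    have h := orderOf_dvd_iff_zpow_eq_one.2 hz
    rw [hord, hq', Nat.add_sub_cancel] at h
    exact_mod_cast h
  -- the position of the two exceptional entries
  obtain ⟨a, ha1, ha2, hA, hB⟩ : ∃ a : ℕ, 1 ≤ a ∧ a + 3 ≤ n ∧
      ¬ (2 * q' : ℤ) ∣ ((n : ℤ) - 4 - 2 * a) ∧ ¬ (2 * q' : ℤ) ∣ ((n : ℤ) - 2 * a) := by
    rcases Nat.even_or_odd n with ⟨k, hk⟩ | ⟨k, hk⟩
    · have hq2 : 2 ≤ q' := by
        by_contra hlt
        exact (Nat.not_odd_iff_even.2 ⟨k, hk⟩) (h3 (by omega))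
      have red : ∀ z : ℤ, (2 * q' : ℤ) ∣ 2 * z → (q' : ℤ) ∣ z :=
        fun z hz => (mul_dvd_mul_iff_left (by norm_num : (2 : ℤ) ≠ 0)).1 hz
      rcases Nat.lt_or_ge n 6 with hn6 | hn6
      · refine ⟨1, le_rfl, by omega, fun h => ?_, fun h => ?_⟩
        · have := red (-1) (by convert h using 1; omega)
          have := Int.le_of_dvd one_pos (dvd_neg.1 this)
          omega
        · have := red 1 (by convert h using 1; omega)
          have := Int.le_of_dvd one_pos this
          omega
      · by_contra hcon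
        simp only [not_exists, not_and, not_not] at hcon
        have H : ∀ a : ℕ, 1 ≤ a → a ≤ 3 →
            (q' : ℤ) ∣ ((k : ℤ) - 2 - a) ∨ (q' : ℤ) ∣ ((k : ℤ) - a) := by
          intro a h1 h2
          by_cases h : (2 * q' : ℤ) ∣ ((n : ℤ) - 4 - 2 * a)
          · exact Or.inl (red _ (by convert h using 1; omega))
          · exact Or.inr (red _ (by convert hcon a h1 (by omega) h using 1; omega))
        have one : ∀ z w : ℤ, (q' : ℤ) ∣ z → (q' : ℤ) ∣ w → (z - w = 1 ∨ w - z = 1) → False := by
          intro z w hz hw h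
          rcases h with h | h
          · have h' : (q' : ℤ) ∣ 1 := h ▸ dvd_sub hz hw
            have := Int.le_of_dvd one_pos h'
            omega
          · have h' : (q' : ℤ) ∣ 1 := h ▸ dvd_sub hw hz
            have := Int.le_of_dvd one_pos h'
            omega
        have two : ∀ z w : ℤ, (q' : ℤ) ∣ z → (q' : ℤ) ∣ w → z - w = 2 → q' = 2 := by
          intro z w hz hw h
          have h' : (q' : ℤ) ∣ 2 := h ▸ dvd_sub hz hw
          have := Int.le_of_dvd two_pos h'
          omega
        have bad : q' = 2 → False := by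
          intro hq
          rcases H 1 le_rfl (by omega) with x | x <;> rcases H 2 (by omega) (by omega) with y | y <;>
            subst hq <;> omega
        rcases H 1 le_rfl (by omega) with x | x <;> rcases H 2 (by omega) (by omega) with y | y <;>
          rcases H 3 (by omega) le_rfl with z | z <;>
          first
            | exact one _ _ x y (by omega)
            | exact one _ _ y z (by omega)
            | exact one _ _ x z (by omega)
            | exact bad (two _ _ x z (by omega))
            | exact bad (two _ _ z x (by omega))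
            | exact bad (two _ _ x y (by omega))
            | exact bad (two _ _ y x (by omega))
            | exact bad (two _ _ y z (by omega))
            | exact bad (two _ _ z y (by omega))
    · refine ⟨1, le_rfl, by omega, fun h => ?_, fun h => ?_⟩ <;>
        · obtain ⟨c, hc⟩ := h
          have : (2 * q' : ℤ) * c = 2 * (q' * c) := by ring
          rw [this] at hc
          omega
  -- the pattern
  let x : Fˣ := g ^ ((n : ℤ) - 3 - 2 * a)
  let y : Fˣ := g ^ (-((n : ℤ) - 1) + 2 * a)
  let d : ℕ → F := fun i => if i = 0 ∨ i = n - 1 then (g : F) else if i = a then (x : F) else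
    if i = a + 1 then (y : F) else 1
  have d0 : d 0 = g := by simp [d]
  have dL : d (n - 1) = g := by simp [d]
  have hsplit : ∀ i, d i = (if i = 0 then (g : F) else 1) * (if i = n - 1 then (g : F) else 1) *
      (if i = a then (x : F) else 1) * (if i = a + 1 then (y : F) else 1) := by
    intro i
    simp only [d]
    split_ifs <;> first | omega | simp
  have hprodE : ∀ e : ℕ → ℕ, ∏ i ∈ Finset.range n, d i ^ e i =
      (((g ^ e 0) * (g ^ e (n - 1)) * (x ^ e a) * (y ^ e (a + 1)) : Fˣ) : F) := by
    intro e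
    simp only [hsplit, mul_pow, ite_pow, one_pow, Finset.prod_mul_distrib, Finset.prod_ite_eq',
      Finset.mem_range]
    rw [if_pos (by omega), if_pos (by omega), if_pos (by omega), if_pos (by omega)]
    simp
  have one_g : (g : F) ≠ 1 := by
    intro h
    have h1 : g ^ (1 : ℤ) = 1 := by rw [zpow_one]; exact Units.ext h
    have := Int.le_of_dvd one_pos (hne 1 h1)
    omega
  refine ⟨d, fun i _ => ?_, ?_, by rw [dL, d0], by rwa [d0], fun i h1 h2' => ?_, ?_⟩
  · simp only [d]; split_ifs <;> simp
  · rw [Fin.prod_univ_eq_prod_range d n]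
    have h := hprodE (fun _ => 1)
    simp only [pow_one] at h
    rw [h, Units.val_eq_one]
    have : g * g * x * y = g ^ ((1 : ℤ) + 1 + ((n : ℤ) - 3 - 2 * a) + (-((n : ℤ) - 1) + 2 * a)) := by
      simp only [x, y, _root_.zpow_add, zpow_one]
    rw [this, show (1 : ℤ) + 1 + ((n : ℤ) - 3 - 2 * a) + (-((n : ℤ) - 1) + 2 * a) = 0 by ring, zpow_zero]
  · rw [d0]
    simp only [d]
    rw [if_neg (by omega)]
    split_ifs
    · intro h
      have h' : x = g ^ (1 : ℤ) := by rw [zpow_one]; exact Units.ext h
      refine hA (hne _ ?_)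
      have := mul_inv_eq_one.2 h'
      rwa [show x = g ^ ((n : ℤ) - 3 - 2 * a) from rfl, ← _root_.zpow_sub,
        show (n : ℤ) - 3 - 2 * a - 1 = (n : ℤ) - 4 - 2 * a by ring] at this
    · intro h
      have h' : y = g ^ (1 : ℤ) := by rw [zpow_one]; exact Units.ext h
      refine hB ?_
      have := mul_inv_eq_one.2 h'
      rw [show y = g ^ (-((n : ℤ) - 1) + 2 * a) from rfl, ← _root_.zpow_sub] at this
      have := hne _ this
      have e : (n : ℤ) - 2 * a = -(-((n : ℤ) - 1) + 2 * a - 1) := by ring
      rw [e]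
      exact dvd_neg.2 this
    · exact Ne.symm one_g
  · refine (hprodE fun i => i).trans ?_
    rw [Units.val_eq_one]
    simp only [pow_zero, one_mul, x, y, ← zpow_natCast, ← _root_.zpow_mul, ← _root_.zpow_add]
    have hc : ((n - 1 : ℕ) : ℤ) = (n : ℤ) - 1 := by omega
    rw [hc]
    push_cast
    rw [zero_add, show (n : ℤ) - 1 + ((n : ℤ) - 3 - 2 * a) * a + (-((n : ℤ) - 1) + 2 * a) * ((a : ℤ) + 1) = 0 by ring,
      zpow_zero]

/-- Signed Pascal matrix, conjugating `low` to its inverse. -/
def pascal (n : ℕ) (F : Type*) [Field F] : Matrix (Fin n) (Fin n) F :=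
  Matrix.of fun i j => (-1 : F) ^ i.val * (i.val.choose j.val : F)

theorem det_pascal (n : ℕ) : (pascal n F).det = ∏ i ∈ Finset.range n, (-1 : F) ^ i := by
  rw [Matrix.det_of_lowerTriangular, ← Fin.prod_univ_eq_prod_range (fun i => (-1 : F) ^ i) n]
  · refine Finset.prod_congr rfl fun i _ => ?_
    simp [pascal]
  · intro i j hij
    have h : i.val < j.val := hij
    simp [pascal, Nat.choose_eq_zero_of_lt h]

theorem low_mul_apply {n : ℕ} (M : Matrix (Fin n) (Fin n) F) (f : ℕ → ℕ → F)
    (hM : ∀ i j : Fin n, M i j = f i j) (i j : Fin n) :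
    (low n F * M) i j = f i j + if i.val = 0 then 0 else f (i.val - 1) j := by
  have hrow : low n F i = E n F i.val ᵥ* low n F := by funext k; rw [vecMul_E _ i.isLt]
  have hlt := i.isLt
  show low n F i ⬝ᵥ (fun l => M l j) = _
  rw [hrow]
  rcases Nat.eq_zero_or_pos i.val with h | h
  · rw [if_pos h, add_zero, h, E_zero_vecMul_low (by omega), E_dot _ (by omega : 0 < n), hM]
  · obtain ⟨m, hm⟩ : ∃ m, i.val = m + 1 := ⟨i.val - 1, by omega⟩
    rw [if_neg (by omega), hm, E_vecMul_low (by omega), add_dotProduct, E_dot _ (by omega : m + 1 < n),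
      E_dot _ (by omega : m < n), hM, hM, Nat.add_sub_cancel]

theorem mul_low_apply {n : ℕ} (M : Matrix (Fin n) (Fin n) F) (f : ℕ → ℕ → F)
    (hM : ∀ i j : Fin n, M i j = f i j) (i j : Fin n) :
    (M * low n F) i j = f i j + if j.val + 1 < n then f i (j.val + 1) else 0 := by
  rw [← mulVec_E (M * low n F) j.isLt i, ← mulVec_mulVec, low_mulVec_E j.isLt, mulVec_add, Pi.add_apply,
    mulVec_E _ j.isLt, hM]
  congr 1
  split_ifs with h
  · rw [mulVec_E _ h, hM]
  · rw [show E n F (j.val + 1) = 0 by funext l; simp [E_apply]; omega, mulVec_zero]; rfl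

theorem low_mul_pascal_mul_low (n : ℕ) : low n F * pascal n F * low n F = pascal n F := by
  ext i j
  have hi := i.isLt
  have hj := j.isLt
  let f : ℕ → ℕ → F := fun a b => (-1 : F) ^ a * (a.choose b : F)
  let g : ℕ → ℕ → F := fun a b => f a b + if a = 0 then 0 else f (a - 1) b
  rw [mul_low_apply (low n F * pascal n F) g (fun a b => low_mul_apply (pascal n F) f (fun _ _ => rfl) a b) i j]
  show g i.val j.val + _ = f i.val j.val
  simp only [g, f]
  rcases Nat.eq_zero_or_pos i.val with h | h
  · rw [h]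
    simp
  · obtain ⟨m, hm⟩ : ∃ m, i.val = m + 1 := ⟨i.val - 1, by omega⟩
    rw [hm]
    simp only [Nat.add_sub_cancel, Nat.add_eq_zero, one_ne_zero, and_false, if_false]
    split_ifs with h'
    · rw [Nat.choose_succ_succ m j.val]; push_cast; ring
    · rw [Nat.choose_eq_zero_of_lt (by omega : m < j.val)]; simp

/-- The pattern for `q = 3` and `n` even. -/
def alternating3 (n : ℕ) (F : Type*) [Field F] : ℕ → F := fun i => if i = 0 ∨ i = n - 2 then 1 else -1

/-- The generation and conjugacy statement for `q = 3`, `n` even. -/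
theorem three_even [Fintype F] (hq : Fintype.card F = 3) {n : ℕ} (hn : 4 ≤ n) (he : Even n) :
    ∃ g : SpecialLinearGroup (Fin n) F,
      Subgroup.closure ({lowS n F, g * lowS n F * g⁻¹} : Set (SpecialLinearGroup (Fin n) F)) = ⊤ := by
  classical
  have hp : (Fintype.card F).Prime := by rw [hq]; norm_num
  have h30 : (3 : F) = 0 := by
    have := FiniteField.cast_card_eq_zero F
    rw [hq] at this; exact_mod_cast this
  have h2 : (2 : F) ≠ 0 := by
    intro h
    exact one_ne_zero (α := F) (by linear_combination h30 - h)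
  obtain ⟨hkk, hk⟩ := he
  set d := alternating3 n F with hdd
  have dv : ∀ i, d i = if i = 0 ∨ i = n - 2 then 1 else -1 := fun i => rfl
  have hd : ∀ i < n, d i ≠ 0 := by
    intro i _; rw [dv]; split_ifs <;> simp
  have d0 : d 0 = 1 := by simp [dv]
  have dL : d (n - 1) = -1 := by rw [dv, if_neg (by omega)]
  have dM : d (n - 2) = 1 := by simp [dv]
  have hpow : ∀ i ∈ Finset.range n, d i ^ i = (-1 : F) ^ i := by
    intro i _
    rw [dv]
    split_ifs with h
    · rcases h with rfl | rfl
      · simp
      · rw [one_pow, Even.neg_one_pow ⟨hkk - 1, by omega⟩]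
    · rfl
  have hprod : ∏ i : Fin n, d i.val = 1 := by
    have e : ∀ i, d i = (-1 : F) * ((if i = 0 then (-1 : F) else 1) * (if i = n - 2 then (-1 : F) else 1)) := by
      intro i; rw [dv]; split_ifs <;> first | omega | simp
    rw [Fin.prod_univ_eq_prod_range d n]
    simp only [e, Finset.prod_mul_distrib, Finset.prod_ite_eq', Finset.prod_const, Finset.card_range,
      Finset.mem_range]
    rw [if_pos (by omega), if_pos (by omega), Even.neg_one_pow ⟨hkk, hk⟩]
    ring
  -- the conjugator
  let g : SpecialLinearGroup (Fin n) F := ⟨cyc n d * pascal n F, by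
    rw [det_mul, det_cyc_eq, Finset.prod_congr rfl hpow, det_pascal,
      inv_mul_cancel₀ (Finset.prod_ne_zero_iff.2 fun i _ => pow_ne_zero _ (by simp))]⟩
  refine ⟨g, ?_⟩
  have hv : g * lowS n F * g⁻¹ = (vS hd)⁻¹ := by
    refine eq_inv_of_mul_eq_one_right ?_
    rw [← mul_assoc, mul_inv_eq_one]
    apply coe_ext
    rw [cmul, cmul]
    show (vS hd : Matrix (Fin n) (Fin n) F) * ((cyc n d * pascal n F) * low n F) = cyc n d * pascal n F
    rw [← Matrix.mul_assoc, ← Matrix.mul_assoc, vS_mul_cyc, Matrix.mul_assoc, Matrix.mul_assoc, ← Matrix.mul_assoc (low n F),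
      low_mul_pascal_mul_low]
  rw [hv]
  set H := Subgroup.closure ({lowS n F, (vS hd)⁻¹} : Set (SpecialLinearGroup (Fin n) F)) with hH
  have hu : lowS n F ∈ H := Subgroup.subset_closure (by simp)
  have hvm : vS hd ∈ H := by simpa using H.inv_mem (Subgroup.subset_closure (by simp : (vS hd)⁻¹ ∈ _))
  have hT : tS hd ∈ H := H.mul_mem hvm (H.inv_mem hu)
  have hn0 : 0 < n := by omega
  set L : Fin n := ⟨n - 1, by omega⟩ with hL
  set Z : Fin n := ⟨0, hn0⟩ with hZ
  set r : Fin n → F := fun j => if j.val = 0 then 0 else (tS hd : Matrix (Fin n) (Fin n) F) Z j with hr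
  have hTap : ∀ i j : Fin n, (tS hd : Matrix (Fin n) (Fin n) F) i j =
      (if i = j then d i.val else 0) + E n F 0 i * r j := by
    intro i j
    rw [E_apply]
    rcases Nat.eq_zero_or_pos i.val with hi | hi
    · have hi' : i = Z := Fin.ext hi
      subst hi'
      rw [if_pos hi, one_mul]
      by_cases hj : j.val = 0
      · have : j = Z := Fin.ext hj
        subst this
        simp [hr, hZ, tS_zero_zero hd hn0 hprod]
      · simp [hr, hj, show Z ≠ j from fun e => hj (by rw [← e])]
    · rw [if_neg (by omega : ¬ i.val = 0), zero_mul, add_zero, tS_apply hd hi]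
      by_cases h : i = j
      · rw [if_pos h, if_pos h.symm]
      · rw [if_neg h, if_neg (fun e => h e.symm)]
  have hTE : (tS hd : Matrix (Fin n) (Fin n) F) = Matrix.diagonal (fun i : Fin n => d i.val) + vecMulVec (E n F 0) r := by
    ext i j
    rw [hTap, Matrix.add_apply, vecMulVec_apply, Matrix.diagonal_apply]
  -- images of the last basis vector and of the first
  have hvL : (vS hd : Matrix (Fin n) (Fin n) F) *ᵥ E n F (n - 1) = r L • E n F 0 - E n F (n - 1) := by
    rw [← tS_mul_low hd, ← mulVec_mulVec, low_mulVec_E (by omega), show n - 1 + 1 = n by omega,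
      show E n F n = 0 by funext i; simp [E_apply, i.isLt.ne], add_zero]
    funext i
    rw [mulVec_E _ (by omega : n - 1 < n), hTap]
    simp only [Pi.sub_apply, Pi.smul_apply, smul_eq_mul, E_apply]
    rw [show (⟨n - 1, by omega⟩ : Fin n) = L from rfl]
    by_cases h : i = L
    · subst h
      rw [if_pos rfl, show L.val = n - 1 from rfl, if_neg (by omega : ¬ n - 1 = 0), if_pos rfl, dL]
      ring
    · have : ¬ i.val = n - 1 := fun e => h (Fin.ext e)
      rw [if_neg h, if_neg this]
      ring
  have hrL : r L ≠ 0 := by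
    intro h0
    obtain ⟨m, hm⟩ := (vS_regular hd hn0).1
    have key : ∀ t : ℕ, (((vS hd : Matrix (Fin n) (Fin n) F) - 1) ^ t) *ᵥ E n F (n - 1) =
        (-2 : F) ^ t • E n F (n - 1) := by
      intro t
      induction t with
      | zero => simp
      | succ t ih =>
        rw [pow_succ, ← mulVec_mulVec, sub_mulVec, one_mulVec, hvL, h0, zero_smul, zero_sub,
          show -E n F (n - 1) - E n F (n - 1) = (-2 : F) • E n F (n - 1) by
            rw [neg_smul, two_smul]; abel,
          mulVec_smul, ih, smul_smul, ← pow_succ']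
    have h1 := congrFun (key m) L
    rw [hm, zero_mulVec] at h1
    simp [E_apply, hL] at h1
    exact pow_ne_zero m (neg_ne_zero.2 h2) h1.symm
  set p : Fin n → F := E n F (n - 2) + E n F (n - 1) with hpdef
  have hLp : low n F *ᵥ E n F (n - 2) = p := by
    rw [low_mulVec_E (by omega), show n - 2 + 1 = n - 1 by omega]
  have hp_col : cyc n d *ᵥ E n F (n - 1) = p := by
    funext i
    have hi := i.isLt
    rw [mulVec_E _ (by omega : n - 1 < n)]
    show chain n d (n - 1 - (n - 1)) i.val = _
    rw [Nat.sub_self]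
    show preQ n d (fun _ => 0) 1 (n - 1 - i.val) = _
    have hq : ∀ m, m < n → preQ n d (fun _ => (0 : F)) 1 m = if m < 2 then 1 else 0 := by
      intro m
      induction m with
      | zero => intro _; rfl
      | succ m ih =>
        intro hm
        rw [preQ, ih (by omega)]
        match m with
        | 0 =>
          rw [Nat.sub_zero, dL]
          simp only [zero_add, Nat.one_lt_ofNat, if_true, zero_lt_two]
          linear_combination (-1 : F) * h30
        | 1 => rw [show n - 1 - 1 = n - 2 by omega, dM]; simp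
        | m + 2 => simp
    rw [hq _ (by omega), hpdef, Pi.add_apply, E_apply, E_apply]
    split_ifs <;> first | omega | simp
  have hvp : (vS hd : Matrix (Fin n) (Fin n) F) *ᵥ p = p := by
    rw [← hp_col, mulVec_mulVec, vS_mul_cyc, ← mulVec_mulVec, low_mulVec_E (by omega),
      show n - 1 + 1 = n by omega, show E n F n = 0 by funext i; simp [E_apply, i.isLt.ne], add_zero]
  have hrM : r ⟨n - 2, by omega⟩ = r L := by
    have h1 := congrFun hvp Z
    rw [← tS_mul_low hd, ← mulVec_mulVec, hpdef, mulVec_add (low n F), low_mulVec_E (by omega),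
      show n - 2 + 1 = n - 1 by omega, low_mulVec_E (by omega), show n - 1 + 1 = n by omega,
      show E n F n = 0 by funext i; simp [E_apply, i.isLt.ne], add_zero, mulVec_add, mulVec_add,
      Pi.add_apply, Pi.add_apply, mulVec_E _ (by omega : n - 2 < n), mulVec_E _ (by omega : n - 1 < n),
      hTap, hTap, Pi.add_apply, E_apply, E_apply, E_apply] at h1
    simp only [hZ, Fin.mk.injEq] at h1
    rw [if_neg (by omega), if_pos trivial, if_neg (by omega), if_neg (by omega), if_neg (by omega)] at h1
    simp only [zero_add, one_mul, add_zero, ← hL] at h1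
    linear_combination h1 - (r L) * h30
  -- the seed
  have hseed : Has H (E n F 0) ((2 * r L) • E n F (n - 2)) := by
    refine has_of_mem (H.mul_mem hT hT) (by rw [smul_dotProduct, E_dot_E (by omega), smul_zero]) ?_
    rw [cmul, hTE, add_mul, mul_add, mul_add, Matrix.diagonal_mul_diagonal, vecMulVec_mul, mul_vecMulVec,
      vecMulVec_mul_vecMulVec, show r ⬝ᵥ E n F 0 = 0 by rw [dot_E _ hn0]; simp [hr], zero_smul,
      vecMulVec_zero, add_zero]
    ext i j
    simp only [Matrix.add_apply, Matrix.one_apply, Matrix.diagonal_apply, vecMulVec_apply, mulVec_diagonal,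
      vecMul_diagonal, Pi.smul_apply, smul_eq_mul, E_apply]
    have hsq : d i.val * d i.val = 1 := by rw [dv]; split_ifs <;> simp
    rcases Nat.eq_zero_or_pos i.val with hi | hi
    · rw [if_pos hi, hi, d0]
      by_cases hj : j.val = n - 2
      · rw [if_pos hj, hj, dM, show j = ⟨n - 2, by omega⟩ from Fin.ext hj, hrM]
        split_ifs <;> ring
      · rw [if_neg hj]
        rcases Nat.eq_zero_or_pos j.val with hj' | hj'
        · rw [show r j = 0 by simp [hr, hj']]; split_ifs <;> ring
        · rw [show d j.val = -1 by rw [dv, if_neg (by omega)]]; split_ifs <;> ring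
    · rw [if_neg (by omega : ¬ i.val = 0), hsq]; split_ifs <;> ring
  have hnat : ∀ x : F, ∀ y φ : Fin n → F, Has H y φ → Has H y (x • φ) := by
    intro x y φ h
    obtain ⟨m, rfl⟩ := natCast_surjective_of_card_prime hp x
    induction m with
    | zero => rw [Nat.cast_zero, zero_smul]; exact has_zero_right
    | succ m ih => rw [Nat.cast_succ, add_smul, one_smul]; exact ih.add_right h
  have hfull : ∀ t : F, Has H (E n F 0) (t • E n F (n - 2)) := by
    intro t
    have := hnat (t / (2 * r L)) _ _ hseed
    rwa [smul_smul, div_mul_cancel₀ t (mul_ne_zero h2 hrL)] at this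
  have hdown : ∀ k, k + 3 ≤ n → ∀ t : F, Has H (E n F 0) (t • E n F (n - 2 - k)) := by
    intro k
    induction k with
    | zero => exact fun _ => hfull
    | succ k ih =>
      intro hk' t
      obtain ⟨j, hj⟩ : ∃ j, n - 2 - k = j + 1 := ⟨n - 2 - k - 1, by omega⟩
      rw [show n - 2 - (k + 1) = j by omega]
      have h1 := ih (by omega) t
      rw [hj] at h1
      have h2' := h1.conj (H.inv_mem hu)
      rw [lowS_inv_mulVec, inv_inv, smul_vecMul, coe_lowS, E_vecMul_low (by omega)] at h2'
      have he : (-1 : F) ^ (n - 2) = 1 := Even.neg_one_pow ⟨hkk - 1, by omega⟩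
      have h3 := h2'.comm_right (hfull 1) (by
        rw [smul_dotProduct, add_dotProduct, E_dot_E (by omega), E_dot_E (by omega)]; simp)
      rw [one_smul, E_dot _ (by omega : n - 2 < n)] at h3
      simp only [alt, he, one_smul] at h3
      have h4 := h3.sub_right h1
      rwa [smul_add, add_sub_cancel_left] at h4
  -- centres for the hyperplane of axes vanishing at the last coordinate
  let C : (Fin n → F) → Prop := fun x => ∀ φ : Fin n → F, φ L = 0 → φ ⬝ᵥ x = 0 → Has H x φ
  have hC0 : C (E n F 0) := by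
    intro φ hφL hφ
    rw [dot_E _ hn0] at hφ
    rw [sum_E φ]
    refine Finset.sum_induction _ (fun z => Has H (E n F 0) z) (fun a b ha hb => ha.add_right hb)
      has_zero_right ?_
    intro i _
    have hi := i.isLt
    rcases Nat.eq_zero_or_pos i.val with h | h
    · rw [show i = Z from Fin.ext h, show φ Z = 0 from hφ, zero_smul]; exact has_zero_right
    rcases eq_or_ne i.val (n - 1) with h1 | h1
    · rw [show i = L from Fin.ext h1, hφL, zero_smul]; exact has_zero_right
    · have := hdown (n - 2 - i.val) (by omega) (φ i)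
      rwa [show n - 2 - (n - 2 - i.val) = i.val by omega] at this
  have hCu : ∀ x, C x → C (low n F *ᵥ x) := by
    intro x hx φ hφL hφ
    have h1 : (φ ᵥ* low n F) L = 0 := by
      rw [show (φ ᵥ* low n F) L = (φ ᵥ* low n F) ⬝ᵥ E n F (n - 1) from (dot_E _ (by omega)).symm, ← dotProduct_mulVec, low_mulVec_E (by omega),
        dotProduct_add, dot_E _ (by omega : n - 1 < n), show n - 1 + 1 = n by omega,
        show E n F n = 0 by funext i; simp [E_apply, i.isLt.ne], dotProduct_zero, add_zero]
      exact hφL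
    have h2' := (hx (φ ᵥ* low n F) h1 (by rw [← dotProduct_mulVec]; exact hφ)).conj hu
    rw [coe_lowS, vecMul_vecMul, ← coe_lowS (F := F) n, ← cmul, mul_inv_cancel, cone, vecMul_one] at h2'
    exact h2'
  have hCE : ∀ i, i + 2 ≤ n → C (E n F i) := by
    intro i
    induction i with
    | zero => exact fun _ => hC0
    | succ i ih =>
      intro hi φ hφL hφ
      -- `E (i+1)` is the difference of `low *ᵥ E i` and `E i`
      set ρ := E n F (i + 1) with hρ
      have hy := hCu _ (ih (by omega))
      rw [low_mulVec_E (by omega), ← hρ] at hy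
      have hρL : ρ L = 0 := by rw [hρ, E_apply, if_neg (by show ¬ (n - 1 = i + 1); omega)]
      obtain ⟨hd', hm⟩ := (ih (by omega) ρ hρL (E_dot_E (by omega))).neg_left
      have hρρ : ρ ⬝ᵥ ρ = 1 := by rw [hρ, dot_E _ (by omega : i + 1 < n)]; simp [E_apply]
      have key : (tv (-E n F i) ρ hd' : Matrix (Fin n) (Fin n) F) *ᵥ (E n F i + ρ) = ρ := by
        rw [coe_tv, add_mulVec, one_mulVec, vecMulVec_mulVec, op_smul_eq_smul, dotProduct_add,
          E_dot_E (by omega), zero_add, hρρ, one_smul]
        abel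
      have h5 : (φ ᵥ* (tv (-E n F i) ρ hd' : Matrix (Fin n) (Fin n) F)) L = 0 := by
        rw [coe_tv, vecMul_add, vecMul_one, vecMul_vecMulVec, Pi.add_apply, Pi.smul_apply, hρL, hφL]
        simp
      have h6 := (hy _ h5 (by rw [← dotProduct_mulVec, key]; exact hφ)).conj hm
      rw [key, vecMul_vecMul, ← cmul, mul_inv_cancel, cone, vecMul_one] at h6
      exact h6
  have hCp : C p := by rw [← hLp]; exact hCu _ (hCE _ (by omega))
  -- the axis outside the hyperplane
  set vi : Matrix (Fin n) (Fin n) F := (((vS hd)⁻¹ : SpecialLinearGroup (Fin n) F) : Matrix (Fin n) (Fin n) F) with hvi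
  have hvinv : ∀ x : Fin n → F, vi *ᵥ ((vS hd : Matrix (Fin n) (Fin n) F) *ᵥ x) = x := by
    intro x; rw [mulVec_mulVec, hvi, ← cmul, inv_mul_cancel, cone, one_mulVec]
  have hTZ : (tS hd : Matrix (Fin n) (Fin n) F) *ᵥ E n F 0 = E n F 0 := by
    funext i
    rw [mulVec_E _ hn0, hTap, show r ⟨0, hn0⟩ = 0 by simp [hr], mul_zero, add_zero, E_apply]
    by_cases h : i.val = 0
    · rw [if_pos (Fin.ext h), if_pos h, h, d0]
    · rw [if_neg (fun e => h (by rw [e])), if_neg h]
  have hvi0 : vi *ᵥ E n F 0 = alt n F := by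
    have h : (vS hd : Matrix (Fin n) (Fin n) F) *ᵥ alt n F = E n F 0 := by
      rw [← tS_mul_low hd, ← mulVec_mulVec, low_mulVec_alt, hTZ]
    rw [← h]
    exact hvinv _
  set φ2 := E n F 0 ᵥ* vi with hφ2
  have hφ2L : φ2 L = r L := by
    have h1 := congrArg (fun z => (vi *ᵥ z) Z) hvL
    rw [hvinv, mulVec_sub, mulVec_smul, hvi0, Pi.sub_apply, Pi.smul_apply, smul_eq_mul, E_apply,
      if_neg (show ¬ Z.val = n - 1 by show ¬ 0 = n - 1; omega)] at h1
    rw [hφ2, vecMul_E _ hn0]
    rw [mulVec_E _ (by omega : n - 1 < n)] at h1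
    simp only [alt, hZ, pow_zero, mul_one] at h1
    linear_combination h1
  have hE0p : E n F 0 ⬝ᵥ p = 0 := by rw [hpdef, dotProduct_add, E_dot_E (by omega), E_dot_E (by omega), add_zero]
  have hpφ2 : Has H p φ2 := by
    have h := (hCp (E n F 0) (by rw [E_apply, if_neg (by show ¬ (n - 1 = 0); omega)]) hE0p).conj hvm
    rwa [hvp] at h
  have hpc : p ∈ centres H := by
    intro φ hφ
    set c := φ L / φ2 L with hc
    have h1 : (φ - c • φ2) L = 0 := by
      rw [Pi.sub_apply, Pi.smul_apply, smul_eq_mul, hc, div_mul_cancel₀ _ (by rw [hφ2L]; exact hrL), sub_self]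
    have h2' := (hCp _ h1 (by rw [sub_dotProduct, smul_dotProduct, hpφ2.dot, hφ, smul_zero, sub_zero])).add_right
      (hnat c _ _ hpφ2)
    rwa [sub_add_cancel] at h2'
  have hLc : E n F (n - 1) ∈ centres H := by
    have h1 := centres_mulVec hu hpc
    rw [coe_lowS, hpdef, mulVec_add, low_mulVec_E (by omega), low_mulVec_E (by omega),
      show n - 2 + 1 = n - 1 by omega, show n - 1 + 1 = n by omega,
      show E n F n = 0 by funext i; simp [E_apply, i.isLt.ne], add_zero, ← hpdef] at h1
    have h2' := (centres H).sub_mem h1 hpc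
    rwa [add_sub_cancel_left] at h2'
  have hZc : E n F 0 ∈ centres H := by
    have h1 := centres_mulVec hvm hLc
    rw [hvL] at h1
    have h2' := (centres H).smul_mem (r L)⁻¹ ((centres H).add_mem h1 hLc)
    rwa [sub_add_cancel, smul_smul, inv_mul_cancel₀ hrL, one_smul] at h2'
  have hall : ∀ i, i < n → E n F i ∈ centres H := by
    intro i
    induction i with
    | zero => exact fun _ => hZc
    | succ i ih =>
      intro hi
      have h1 := centres_mulVec hu (ih (by omega))
      rw [coe_lowS, low_mulVec_E (by omega)] at h1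
      have h2' := (centres H).sub_mem h1 (ih (by omega))
      rwa [add_sub_cancel_left] at h2'
  refine eq_top_of_centres fun i => ?_
  rw [← E_eq_single]
  exact hall _ i.isLt

/-- Two conjugate regular unipotents generate `SL_n(p)`, `p` odd, `n ≥ 4`. -/
theorem two_gen_prime [Fintype F] (hp : (Fintype.card F).Prime) (h2 : Fintype.card F ≠ 2) {n : ℕ}
    (hn : 4 ≤ n) :
    ∃ g : SpecialLinearGroup (Fin n) F,
      Subgroup.closure ({lowS n F, g * lowS n F * g⁻¹} : Set (SpecialLinearGroup (Fin n) F)) = ⊤ := by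
  by_cases h3 : Fintype.card F = 3 ∧ Even n
  · exact three_even h3.1 hn h3.2
  obtain ⟨d, hd, hprod, hlast, hα, hmid, hR⟩ :=
    exists_pattern hn hp h2 (fun h => Nat.not_even_iff_odd.1 fun he => h3 ⟨h, he⟩)
  obtain ⟨g, hg⟩ := vS_isConj hd 1 (by rw [one_pow, one_mul, det_cyc_eq, hR, inv_one])
  exact ⟨g, by rw [← hg]; exact two_gen (by omega) hd hprod hlast hα hmid (closure_eq_top_of_card_prime hp _)⟩

end Cfsg.Agent.SLGen
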